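import Cfsg.Agent.Gold.Cm

/-!
# The plane of `L₃(2ⁿ)` in group-theoretic terms: definitions

Points and lines are the elementary abelian subgroups of order `q²`.
-/

set_option autoImplicit false

namespace Cfsg.Lib.Hi3

open Subgroup Cfsg.Lib.Trans
open Cfsg.Lib.Gold (Cs mem_Cs)
open scoped MatrixGroups

section mat

variable {K : Type} [Field K]

/-- Upper unitriangular matrices. -/
def uu (c : K) : SL(2, K) := ⟨!![1, c; 0, 1], by simp [Matrix.det_fin_two]⟩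

/-- Lower unitriangular matrices. -/
def ll (c : K) : SL(2, K) := ⟨!![1, 0; c, 1], by simp [Matrix.det_fin_two]⟩

/-- Diagonal matrices. -/
def dg (a : Kˣ) : SL(2, K) := ⟨!![(a : K), 0; 0, (a⁻¹ : Kˣ)], by simp [Matrix.det_fin_two]⟩

/-- The Weyl element. -/
def ww : SL(2, K) := ⟨!![0, 1; -1, 0], by simp [Matrix.det_fin_two]⟩

theorem uu_eq_1' : type_of% @uu.eq_1 := @uu.eq_1
theorem ll_eq_1' : type_of% @ll.eq_1 := @ll.eq_1
theorem dg_eq_1' : type_of% @dg.eq_1 := @dg.eq_1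
theorem ww_eq_1' : type_of% @ww.eq_1 := @ww.eq_1

theorem uu_add (a b : K) : uu (a + b) = uu a * uu b :=
  Subtype.ext (show _ = (uu a).1 * (uu b).1 by simp [uu, add_comm])

theorem uu_eq_one {a : K} : uu a = 1 ↔ a = 0 :=
  ⟨fun h => by simpa [uu] using congrFun (congrFun (congrArg Subtype.val h) 0) 1, fun h => by
    ext i j; fin_cases i <;> fin_cases j <;> simp [uu, h]⟩

theorem dg_mul (a b : Kˣ) : dg (a * b) = dg a * dg b :=
  Subtype.ext (show _ = (dg a).1 * (dg b).1 by simp [dg, mul_comm])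

theorem dg_one : dg (1 : Kˣ) = 1 := by
  ext i j; fin_cases i <;> fin_cases j <;> simp [dg]

theorem dg_inv (a : Kˣ) : dg a⁻¹ = (dg a)⁻¹ :=
  eq_inv_of_mul_eq_one_left (by rw [← dg_mul, inv_mul_cancel, dg_one])

theorem dg_uu (a : Kˣ) (c : K) : dg a * uu c * (dg a)⁻¹ = uu (a * a * c) := by
  rw [mul_inv_eq_iff_eq_mul]
  exact Subtype.ext (show (dg a).1 * (uu c).1 = (uu _).1 * (dg a).1 by
    simp [dg, uu]; field_simp)

theorem ww_uu (c : K) : ww * uu c * ww⁻¹ = ll (-c) := by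
  rw [mul_inv_eq_iff_eq_mul]
  exact Subtype.ext (show ww.1 * (uu c).1 = (ll _).1 * ww.1 by simp [ww, uu, ll])

theorem ww_dg (a : Kˣ) : ww * dg a * ww⁻¹ = dg a⁻¹ := by
  rw [mul_inv_eq_iff_eq_mul]
  exact Subtype.ext (show ww.1 * (dg a).1 = (dg _).1 * ww.1 by simp [ww, dg])

end mat

variable {G : Type*} [Group G]

/-- `g` is a 2-element. -/
def Tw (g : G) : Prop := ∃ k : ℕ, g ^ 2 ^ k = 1

/-- Points and lines. -/
structure EA (N : Subgroup G) (q : ℕ) (E : Subgroup G) : Prop where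
  le : E ≤ N
  sq : ∀ x ∈ E, x * x = 1
  card : Nat.card E = q ^ 2

/-- Same type. -/
def Sim (N E E' : Subgroup G) : Prop := ∃ l ∈ N, cj l E = E'

/-- Incidence. -/
def Inc (E F : Subgroup G) : Prop := E ≠ F ∧ ∃ t ∈ E, t ∈ F ∧ t ≠ 1

/-- The subgroup generated by the objects incident with `E`. -/
def LL (N : Subgroup G) (q : ℕ) (E : Subgroup G) : Subgroup G := sSup {F | EA N q F ∧ Inc E F}

/-- Flags. -/
structure Fl (q : ℕ) (E F : Subgroup G) : Prop where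
  cinf : Nat.card ↥(E ⊓ F) = q
  nl : ∀ e ∈ E, cj e F = F
  nr : ∀ f ∈ F, cj f E = E
  nc : ∀ e ∈ E, ∀ f ∈ F, e * f = f * e → e ∈ F ∨ f ∈ E

/-- The Levi factor attached to two points `E`, `E'` of the line `F`. -/
structure S2 (N : Subgroup G) (q : ℕ) {K : Type} [Field K] (E E' F : Subgroup G)
    (φ : SL(2, K) →* G) : Prop where
  nm : ∀ g, cj (φ g) F = F
  up : ∀ c, φ (uu c) ∈ E
  lo : ∀ c, φ (ll c) ∈ E'
  inj : ∀ g, φ g ∈ F → g = 1
  om : ∀ a : Kˣ, a ^ 3 = 1 → φ (dg a) ∈ LL N q E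

/-- The plane. -/
structure Pl (N : Subgroup G) (q : ℕ) (K : Type) [Field K] : Prop where
  fin : Finite K
  card : Nat.card K = q
  char : (2 : K) = 0
  simple : IsSimpleGroup N
  ex : ∃ E, EA N q E
  sim_or : ∀ {E F A}, EA N q E → EA N q F → EA N q A → Inc E F → Sim N E A ∨ Sim N F A
  nsim : ∀ {E F}, EA N q E → EA N q F → Inc E F → ¬ Sim N E F
  thru : ∀ t ∈ N, t * t = 1 → t ≠ 1 → ∃ E F, EA N q E ∧ EA N q F ∧ E ≠ F ∧ t ∈ E ∧ t ∈ F
  join : ∀ {E E'}, EA N q E → E ≠ E' → Sim N E E' → ∃ F, EA N q F ∧ Inc E F ∧ Inc E' F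
  fl : ∀ {E F}, EA N q E → EA N q F → Inc E F → Fl q E F
  sl : ∀ {A}, EA N q A → ∃ (E E' F : Subgroup G) (φ : SL(2, K) →* G), Sim N E A ∧ EA N q E ∧
    EA N q E' ∧ EA N q F ∧ Inc E F ∧ Inc E' F ∧ E ≠ E' ∧ S2 N q E E' F φ

theorem Tw_eq_1' : type_of% @Tw.eq_1 := @Tw.eq_1
theorem Sim_eq_1' : type_of% @Sim.eq_1 := @Sim.eq_1
theorem Inc_eq_1' : type_of% @Inc.eq_1 := @Inc.eq_1
theorem LL_eq_1' : type_of% @LL.eq_1 := @LL.eq_1

variable {N E E' E'' F F' : Subgroup G} {q : ℕ} {g x y : G}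

theorem cmem (h : cj g E = F) (hx : x ∈ E) : g * x * g⁻¹ ∈ F := h ▸ conj_mem_cj.2 hx

theorem cmem' (h : cj g E = F) (hx : g * x * g⁻¹ ∈ F) : x ∈ E := conj_mem_cj.1 (h ▸ hx)

theorem cinv (h : cj g E = F) : cj g⁻¹ F = E := by rw [← h, cj_inv_cj]

theorem cmul {g' : G} (h : cj g E = E') (h' : cj g' E' = E'') : cj (g' * g) E = E'' := by
  rw [cj_mul, h, h']

theorem Tw.of_sq (h : x * x = 1) : Tw x := ⟨1, by rwa [pow_one, pow_two]⟩

theorem Tw.conj (h : Tw x) (g : G) : Tw (g * x * g⁻¹) :=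
  h.imp fun k hk => by rw [conj_pow, hk]; simp

theorem Tw.inv (h : Tw x) : Tw x⁻¹ := h.imp fun k hk => by rw [inv_pow, hk, inv_one]

theorem Tw.mul (hx : Tw x) (hy : Tw y) (c : x * y = y * x) : Tw (x * y) := by
  obtain ⟨k, hk⟩ := hx
  obtain ⟨l, hl⟩ := hy
  refine ⟨k + l, ?_⟩
  rw [Commute.mul_pow c, pow_add, pow_mul, hk, mul_comm (2 ^ k), pow_mul, hl]
  simp

/-- The product of a 2-element and an element of an elementary abelian group it normalizes. -/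
theorem Tw.mul_left (hx : Tw x) (hE : ∀ e ∈ E, e * e = 1) (hn : cj x E = E) (hy : y ∈ E) :
    Tw (y * x) := by
  obtain ⟨k, hk⟩ := hx
  have key : ∀ n : ℕ, (y * x) ^ n * (x ^ n)⁻¹ ∈ E := fun n => by
    induction n with
    | zero => simp
    | succ n ih =>
      have := mul_mem hy (cmem hn ih)
      rwa [show y * (x * ((y * x) ^ n * (x ^ n)⁻¹) * x⁻¹) = (y * x) ^ (n + 1) * (x ^ (n + 1))⁻¹ by
        rw [pow_succ' (y * x), pow_succ' x]; group] at this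
  refine ⟨k + 1, ?_⟩
  have := hE _ (key (2 ^ k))
  rwa [hk, inv_one, mul_one, ← pow_add, ← mul_two, ← pow_succ] at this

theorem Tw.isPGroup (h : Tw x) : IsPGroup 2 (zpowers x) := by
  obtain ⟨k, hk⟩ := h
  rintro ⟨_, n, rfl⟩
  exact ⟨k, Subtype.ext (by
    change (x ^ n) ^ 2 ^ k = 1
    rw [← zpow_natCast, ← zpow_mul, mul_comm, zpow_mul, zpow_natCast, hk, one_zpow])⟩

theorem EA.cj (h : EA N q E) (g : G) : EA (cj g N) q (cj g E) :=
  ⟨cj_mono g h.le, by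
    rintro _ ⟨x, hx, rfl⟩
    change g * x * g⁻¹ * (g * x * g⁻¹) = 1
    rw [conj_mul, h.sq x hx]; simp, (card_cj g E).trans h.card⟩

theorem EA.cjn (h : EA N q E) (hg : Trans.cj g N = N) : EA N q (Trans.cj g E) := hg ▸ h.cj g

theorem EA.cjm (h : EA N q E) (hg : g ∈ N) : EA N q (Trans.cj g E) := h.cjn (cj_eq_of_mem hg)

theorem EA.comm (h : EA N q E) (hx : x ∈ E) (hy : y ∈ E) : x * y = y * x :=
  Gold.comm_of_sq h.sq x hx y hy

theorem EA.inv (h : EA N q E) (hx : x ∈ E) : x⁻¹ = x := inv_eq_of_mul_eq_one_right (h.sq x hx)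

theorem Inc.symm (h : Inc E F) : Inc F E := by
  obtain ⟨h1, t, h2, h3, h4⟩ := h
  exact ⟨h1.symm, t, h3, h2, h4⟩

theorem Inc.cj (h : Inc E F) (g : G) : Inc (cj g E) (cj g F) := by
  obtain ⟨h1, t, h2, h3, h4⟩ := h
  exact ⟨fun e => h1 (cj_inj.1 e), _, conj_mem_cj.2 h2, conj_mem_cj.2 h3, by simpa using h4⟩

theorem Inc.cj' (h : Inc E F) (h1 : Trans.cj g E = E') (h2 : Trans.cj g F = F') : Inc E' F' :=
  h1 ▸ h2 ▸ h.cj g

theorem Sim.refl (N E : Subgroup G) : Sim N E E := ⟨1, one_mem _, cj_one _⟩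

theorem Sim.symm (h : Sim N E E') : Sim N E' E := by
  obtain ⟨l, hl, e⟩ := h
  exact ⟨l⁻¹, inv_mem hl, cinv e⟩

theorem Sim.trans (h : Sim N E E') (h' : Sim N E' E'') : Sim N E E'' := by
  obtain ⟨l, hl, e⟩ := h
  obtain ⟨l', hl', e'⟩ := h'
  exact ⟨l' * l, mul_mem hl' hl, cmul e e'⟩

theorem Sim.cj (h : Sim N E E') (g : G) : Sim (cj g N) (cj g E) (cj g E') := by
  obtain ⟨l, hl, rfl⟩ := h
  exact ⟨_, conj_mem_cj.2 hl, by rw [cj_cj, cj_cj]; simp⟩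

theorem Sim.cjn (h : Sim N E E') (hg : Trans.cj g N = N) : Sim N (Trans.cj g E) (Trans.cj g E') :=
  hg ▸ h.cj g

theorem Sim.ea (h : Sim N E E') (hE : EA N q E) : EA N q E' := by
  obtain ⟨l, hl, rfl⟩ := h
  exact hE.cjm hl

theorem le_LL (h : EA N q F) (hi : Inc E F) : F ≤ LL N q E := le_sSup ⟨h, hi⟩

theorem LL_le {X : Subgroup G} (h : ∀ F, EA N q F → Inc E F → F ≤ X) : LL N q E ≤ X :=
  sSup_le fun F hF => h F hF.1 hF.2

theorem LL_le_N : LL N q E ≤ N := LL_le fun _ h _ => h.le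

theorem cj_LL_le (g : G) : cj g (LL N q E) ≤ LL (cj g N) q (cj g E) := by
  rw [cj_le_iff_le_cj_inv]
  exact LL_le fun F h hi => cj_le_iff_le_cj_inv.1 (le_LL (h.cj g) (hi.cj g))

theorem cj_LL (g : G) : cj g (LL N q E) = LL (cj g N) q (cj g E) := by
  refine le_antisymm (cj_LL_le g) ?_
  have := cj_LL_le (N := cj g N) (q := q) (E := cj g E) g⁻¹
  rwa [cj_inv_cj, cj_inv_cj, cj_inv_le_iff_le_cj] at this

theorem Fl.symm (h : Fl q E F) : Fl q F E :=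
  ⟨inf_comm E F ▸ h.cinf, h.nr, h.nl, fun f hf e he c => (h.nc e he f hf c.symm).symm⟩

theorem cj_conj (g x : G) (E : Subgroup G) : cj (g * x * g⁻¹) (cj g E) = cj g (cj x E) := by
  rw [cj_cj, cj_cj]; simp

theorem Fl.cj (h : Fl q E F) (g : G) : Fl q (cj g E) (cj g F) := by
  refine ⟨by rw [← cj_inf, card_cj, h.cinf], ?_, ?_, ?_⟩
  · rintro _ ⟨e, he, rfl⟩
    exact (cj_conj g e F).trans (by rw [h.nl e he])
  · rintro _ ⟨e, he, rfl⟩
    exact (cj_conj g e E).trans (by rw [h.nr e he])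
  · rintro _ ⟨e, he, rfl⟩ _ ⟨f, hf, rfl⟩ c
    exact (h.nc e he f hf ((MulAut.conj g).injective (by simpa using c))).imp
      (mem_map_of_mem _) (mem_map_of_mem _)

theorem S2.cj {K : Type} [Field K] {φ : SL(2, K) →* G} (h : S2 N q E E' F φ) (g : G) :
    S2 (cj g N) q (cj g E) (cj g E') (cj g F) ((MulAut.conj g).toMonoidHom.comp φ) :=
  ⟨fun x => (cj_conj g (φ x) F).trans (by rw [h.nm]), fun c => conj_mem_cj.2 (h.up c),
    fun c => conj_mem_cj.2 (h.lo c), fun x hx => h.inj x (conj_mem_cj.1 hx),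
    fun a ha => cj_LL_le g (conj_mem_cj.2 (h.om a ha))⟩

end Cfsg.Lib.Hi3
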