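import Cfsg.Agent.Hi3.Defs

/-!
# The plane of `L₃(2ⁿ)` in group-theoretic terms: incidence, counting, transitivity
-/

set_option autoImplicit false

namespace Cfsg.Lib.Hi3

open Subgroup Cfsg.Lib.Trans
open Cfsg.Lib.Gold (Cs mem_Cs)
open scoped MatrixGroups

theorem ncard_fib {α β : Type*} {S : Set α} {T : Set β} (hS : S.Finite) (hT : T.Finite)
    (R : α → β → Prop) (h1 : ∀ x ∈ S, ∃ y ∈ T, R x y)
    (h2 : ∀ x ∈ S, ∀ y ∈ T, ∀ y' ∈ T, R x y → R x y' → y = y') {m : ℕ}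
    (h3 : ∀ y ∈ T, {x | x ∈ S ∧ R x y}.ncard = m) : S.ncard = T.ncard * m := by
  classical
  rcases isEmpty_or_nonempty β with hβ | hβ
  · rw [Set.eq_empty_of_isEmpty T, Set.eq_empty_iff_forall_notMem.2 fun x hx =>
      (h1 x hx).elim fun y _ => isEmptyElim y]
    simp
  choose! f hf hR using h1
  rw [Set.ncard_eq_toFinset_card S hS, Set.ncard_eq_toFinset_card T hT,
    Finset.card_eq_sum_card_fiberwise (f := f) (t := hT.toFinset) (fun x hx => by simpa using hf x (by simpa using hx)),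
    Finset.sum_const_nat]
  intro y hy
  rw [Set.Finite.mem_toFinset] at hy
  rw [← h3 y hy, ← Set.ncard_coe_finset]
  congr 1
  ext x
  simp only [Finset.coe_filter, Set.Finite.mem_toFinset, Set.mem_ofPred_eq]
  exact and_congr_right fun hx => ⟨fun e => e ▸ hR x hx, fun r => h2 x hx _ (hf x hx) _ hy (hR x hx) r⟩

theorem exists_fix {P X : Type*} [Group P] (hP : IsPGroup 2 P) (act : P → X → X)
    (h1 : ∀ x, act 1 x = x) (hm : ∀ g h x, act (g * h) x = act g (act h x)) (A : Set X)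
    (hA : ∀ g, ∀ x ∈ A, act g x ∈ A) (hd : Odd A.ncard) : ∃ b ∈ A, ∀ g, act g b = b := by
  let : MulAction P A :=
    { smul := fun g x => ⟨act g x, hA g x x.2⟩
      one_smul := fun x => Subtype.ext (h1 x)
      mul_smul := fun g h x => Subtype.ext (hm g h x) }
  obtain ⟨b, hb⟩ := hP.nonempty_fixed_point_of_prime_not_dvd_card A (by
    rw [Nat.card_coe_set_eq, ← even_iff_two_dvd, Nat.not_even_iff_odd]; exact hd)
  exact ⟨b, b.2, fun g => congrArg Subtype.val (hb g)⟩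

variable {G : Type*} [Group G] {N E E' E₀ E₁ E₂ F F' F₀ F₁ F₂ A : Subgroup G} {q : ℕ}
  {g t e f z l u : G}

theorem exists_fix_cj {P : Subgroup G} (hP : IsPGroup 2 P) (S : Set (Subgroup G))
    (hS : ∀ g ∈ P, ∀ x ∈ S, cj g x ∈ S) (hd : Odd S.ncard) : ∃ b ∈ S, ∀ g ∈ P, cj g b = b := by
  obtain ⟨b, hb, h⟩ := exists_fix hP (fun g x => cj (g : G) x) (fun x => cj_one x)
    (fun g h x => cj_mul _ _ _) S (fun g => hS g g.2) hd
  exact ⟨b, hb, fun g hg => h ⟨g, hg⟩⟩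

theorem comm_of_eq_one (h : g * t * g⁻¹ * t⁻¹ = 1) : g * t = t * g := by
  rwa [mul_inv_eq_one, mul_inv_eq_iff_eq_mul] at h

theorem cm_mem_right (h : cj g E = E) (ht : t ∈ E) : g * t * g⁻¹ * t⁻¹ ∈ E :=
  mul_mem (cmem h ht) (inv_mem ht)

theorem cm_mem_left (h : cj t E = E) (hg : g ∈ E) : g * t * g⁻¹ * t⁻¹ ∈ E := by
  simpa [mul_assoc] using mul_mem hg (cmem h (inv_mem hg))

namespace Pl

variable [Finite G] {K : Type} [Field K] (h : Pl N q K)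
include h

omit [Finite G] in
theorem two_le : 2 ≤ q := by
  have := h.fin
  exact h.card ▸ Finite.one_lt_card

omit [Finite G] in
theorem even : Even q := by
  have := h.fin
  have := addOrderOf_dvd_natCard (1 : K)
  rwa [addOrderOf_eq_prime (p := 2) (by simpa using h.char) one_ne_zero, h.card,
    ← even_iff_two_dvd] at this

omit [Finite G] in
theorem sim_of_inc (hE : EA N q E) (hE' : EA N q E') (hF : EA N q F) (h1 : Inc E F)
    (h2 : Inc E' F) : Sim N E E' :=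
  (h.sim_or hE hF hE' h1).resolve_right (h.nsim hF hE' h2.symm)

omit [Finite G] in
theorem eq_of_sim (hE : EA N q E) (hs : Sim N E E') (h1 : t ∈ E) (h2 : t ∈ E') (h3 : t ≠ 1) :
    E = E' := by_contra fun e => h.nsim hE (hs.ea hE) ⟨e, t, h1, h2, h3⟩ hs

omit [Finite G] in
theorem eq_one_of_sim (hE : EA N q E) (hs : Sim N E E') (n : E ≠ E') (h1 : t ∈ E) (h2 : t ∈ E') :
    t = 1 := by_contra fun e => n (h.eq_of_sim hE hs h1 h2 e)

omit [Finite G] in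
theorem other (hE : EA N q E) (h1 : t ∈ E) (h3 : t ≠ 1) : ∃ F, EA N q F ∧ Inc E F ∧ t ∈ F := by
  obtain ⟨A, B, hA, hB, n, a, b⟩ := h.thru t (hE.le h1) (hE.sq t h1) h3
  by_cases e : E = A
  · exact ⟨B, hB, ⟨e ▸ n, t, h1, b, h3⟩, b⟩
  · exact ⟨A, hA, ⟨e, t, h1, a, h3⟩, a⟩

omit [Finite G] in
theorem eq_or (hE : EA N q E) (hF : EA N q F) (hA : EA N q A) (n : E ≠ F) (h1 : t ∈ E) (h2 : t ∈ F)
    (h3 : t ∈ A) (h4 : t ≠ 1) : A = E ∨ A = F :=
  (h.sim_or hE hF hA ⟨n, t, h1, h2, h4⟩).imp (fun s => (h.eq_of_sim hE s h1 h3 h4).symm)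
    fun s => (h.eq_of_sim hF s h2 h3 h4).symm

omit h in
theorem eq_of_le (hE : EA N q E) (hF : EA N q F) (hle : E ≤ F) : E = F :=
  eq_of_le_of_card_ge hle (by rw [hE.card, hF.card])

omit h in
theorem exists_notMem (hE : EA N q E) (hF : EA N q F) (n : E ≠ F) : ∃ e ∈ E, e ∉ F :=
  SetLike.not_le_iff_exists.1 fun hle => n (eq_of_le hE hF hle)

omit [Finite G] in
theorem exists_ne_one (hE : EA N q E) : ∃ e ∈ E, e ≠ 1 := by
  by_contra! hc
  have := hE.card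
  rw [(eq_bot_iff_forall E).2 hc, card_bot] at this
  nlinarith [h.two_le]

omit [Finite G] in
theorem exists_inc (hE : EA N q E) : ∃ F, EA N q F ∧ Inc E F := by
  obtain ⟨e, h1, h2⟩ := h.exists_ne_one hE
  obtain ⟨F, a, b, -⟩ := h.other hE h1 h2
  exact ⟨F, a, b⟩

theorem comm_onto (hE : EA N q E) (hF : EA N q F) (hi : Inc E F) (he : e ∈ E) (n : e ∉ F)
    (z1 : z ∈ E) (z2 : z ∈ F) : ∃ f ∈ F, e * f * e⁻¹ * f⁻¹ = z := by
  have hl := h.fl hE hF hi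
  let ψ : F →* G := MonoidHom.mk' (fun f => e * f * e⁻¹ * (f : G)⁻¹) fun a b => by
    have c1 := hF.comm (inv_mem a.2) (cmem (hl.nl e he) b.2)
    have c2 := hF.comm (inv_mem a.2) (inv_mem b.2)
    calc _ = e * a * e⁻¹ * ((e * b * e⁻¹) * ((b : G)⁻¹ * (a : G)⁻¹)) := by
          rw [Subgroup.coe_mul]; group
      _ = _ := by rw [← c2, ← mul_assoc (e * b * e⁻¹), ← c1]; group
  have hk : ψ.ker = (E ⊓ F).subgroupOf F := by
    ext f
    refine ⟨fun hf => ⟨(hl.nc e he f f.2 (comm_of_eq_one hf)).resolve_left n, f.2⟩, fun hf => ?_⟩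
    change e * f * e⁻¹ * (f : G)⁻¹ = 1
    rw [hE.comm he (show (f : G) ∈ E from hf.1)]; group
  have hr : ψ.range ≤ E ⊓ F := by
    rintro _ ⟨f, rfl⟩
    exact ⟨cm_mem_left (hl.nr f f.2) he, cm_mem_right (hl.nl e he) f.2⟩
  have hc := ψ.ker.card_mul_index
  rw [index_ker, hk, Nat.card_congr (subgroupOfEquivOfLe inf_le_right).toEquiv, hl.cinf, hF.card,
    pow_two] at hc
  obtain ⟨f, hf⟩ := (eq_of_le_of_card_ge hr (by
    rw [hl.cinf, Nat.eq_of_mul_eq_mul_left (by have := h.two_le; omega) hc])).ge ⟨z1, z2⟩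
  exact ⟨f, f.2, hf⟩

theorem split (hE : EA N q E) (h1 : EA N q F₁) (h2 : EA N q F₂) (i1 : Inc E F₁) (i2 : Inc E F₂)
    (n : F₁ ≠ F₂) (he : e ∈ E) : ∃ a ∈ E ⊓ F₁, ∃ b ∈ E ⊓ F₂, e = a * b := by
  have hs := h.sim_of_inc h1 h2 hE i1.symm i2.symm
  let f : ↥(E ⊓ F₁) × ↥(E ⊓ F₂) → E := fun x => ⟨x.1 * x.2, mul_mem x.1.2.1 x.2.2.1⟩
  have hi : Function.Injective f := fun x y e => by
    have e1 : (x.1 : G) * x.2 = y.1 * y.2 := congrArg Subtype.val e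
    have e2 : (y.1 : G)⁻¹ * x.1 = y.2 * (x.2 : G)⁻¹ := by
      rw [inv_mul_eq_iff_eq_mul, ← mul_assoc, ← e1, mul_inv_cancel_right]
    have e3 := h.eq_one_of_sim h1 hs n (mul_mem (inv_mem y.1.2.2) x.1.2.2)
      (e2 ▸ mul_mem y.2.2.2 (inv_mem x.2.2.2))
    exact Prod.ext (Subtype.ext (inv_mul_eq_one.1 e3).symm)
      (Subtype.ext (mul_inv_eq_one.1 (e2 ▸ e3)).symm)
  obtain ⟨x, hx⟩ := ((Nat.bijective_iff_injective_and_card f).2 ⟨hi, by
    rw [Nat.card_prod, (h.fl hE h1 i1).cinf, (h.fl hE h2 i2).cinf, hE.card, pow_two]⟩).2 ⟨e, he⟩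
  exact ⟨x.1, x.1.2, x.2, x.2.2, (congrArg Subtype.val hx).symm⟩

omit [Finite G] in
theorem uniq (hE : EA N q E) (hE' : EA N q E') (hF : EA N q F) (hF' : EA N q F') (i1 : Inc E F)
    (i2 : Inc E F') (i3 : Inc E' F) (i4 : Inc E' F') : E = E' ∨ F = F' := by
  by_contra! n
  have s1 := h.sim_of_inc hE hE' hF i1 i3
  have s2 := h.sim_of_inc hF hF' hE i1.symm i2.symm
  obtain ⟨-, a, a1, a2, a3⟩ := id i2
  obtain ⟨-, b, b1, b2, b3⟩ := id i3
  have := h.eq_one_of_sim hE s1 n.1 (cm_mem_left ((h.fl hE hF i1).nr b b2) a1)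
    (cm_mem_right ((h.fl hE' hF' i4).nr a a2) b1)
  rcases (h.fl hE hF i1).nc a a1 b b2 (comm_of_eq_one this) with c | c
  · exact a3 (h.eq_one_of_sim hF s2 n.2 c a2)
  · exact b3 (h.eq_one_of_sim hE s1 n.1 c b1)

omit [Finite G] in
theorem inc_of_fix (hE : EA N q E₀) (hF : EA N q F₀) (hi : Inc E₀ F₀) (t1 : t ∈ E₀) (t2 : t ∈ F₀)
    (t3 : t ≠ 1) (hs : Sim N E₀ E) (hf : cj t E = E) : Inc E F₀ := by
  by_cases e : E₀ = E
  · exact e ▸ hi
  obtain ⟨m, hm, i1, i2⟩ := h.join hE e hs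
  by_cases e' : m = F₀
  · exact e' ▸ i2
  obtain ⟨-, z, z1, z2, z3⟩ := id i2
  have := h.eq_one_of_sim hE hs e (cm_mem_left ((h.fl hE hm i1).nr z z2) t1) (cm_mem_right hf z1)
  rcases (h.fl hE hm i1).nc t t1 z z2 (comm_of_eq_one this) with c | c
  · exact absurd (h.eq_of_sim hm (h.sim_of_inc hm hF hE i1.symm hi.symm) c t2 t3) e'
  · exact absurd (h.eq_one_of_sim hE hs e c z1) z3

omit [Finite G] in
theorem inc_of_fix' (hF : EA N q F) (hE : EA N q E) (n : ¬ Sim N F E) (t1 : t ∈ F) (t3 : t ≠ 1)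
    (hf : cj t E = E) : Inc E F := by
  obtain ⟨A, hA, hi, t2⟩ := h.other hF t1 t3
  exact h.inc_of_fix hA hF hi.symm t2 t1 t3 ((h.sim_or hF hA hE hi).resolve_left n) hf

omit [Finite G] in
theorem mem_of_fix (hE : EA N q E) (hF : EA N q F) (h1 : EA N q F₁) (i : Inc E F) (i1 : Inc E F₁)
    (n : F₁ ≠ F) (hf : f ∈ F) (e : cj f F₁ = F₁) : f ∈ E := by
  by_cases f1 : f = 1
  · exact f1 ▸ one_mem _
  obtain ⟨A, hA, hi, t2⟩ := h.other hF hf f1
  have := h.inc_of_fix hF hA hi hf t2 f1 (h.sim_of_inc hF h1 hE i.symm i1.symm) e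
  exact (h.uniq hE hA hF h1 i i1 hi.symm this.symm).resolve_right n.symm ▸ t2

theorem tr_line (hE : EA N q E) (hF : EA N q F) (h1 : EA N q F₁) (h2 : EA N q F₂) (i : Inc E F)
    (i1 : Inc E F₁) (i2 : Inc E F₂) (n1 : F₁ ≠ F) (n2 : F₂ ≠ F) : ∃ f ∈ F, cj f F₁ = F₂ := by
  obtain ⟨-, e, e1, e2, e3⟩ := id i1
  have e4 : e ∉ F := fun c => n1 (h.eq_of_sim h1 (h.sim_of_inc h1 hF hE i1.symm i.symm) e2 c e3)
  obtain ⟨a, ha, b, hb, rfl⟩ := h.split hE hF h2 i i2 n2.symm e1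
  obtain ⟨f, hf, e5⟩ := h.comm_onto hE hF i e1 e4 ha.1 ha.2
  have e6 : f * (a * b) * f⁻¹ = b := by
    have : f * (a * b)⁻¹ * f⁻¹ = b⁻¹ :=
      calc _ = (a * b)⁻¹ * (a * b * f * (a * b)⁻¹ * f⁻¹) := by group
        _ = b⁻¹ := by rw [e5]; group
    rwa [hE.inv e1, hE.inv hb.1] at this
  refine ⟨f, hf, h.eq_of_sim (h1.cjm (hF.le hf)) (.trans (.symm ⟨f, hF.le hf, rfl⟩)
    (h.sim_of_inc h1 h2 hE i1.symm i2.symm)) (e6 ▸ conj_mem_cj.2 e2) hb.2 ?_⟩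
  rintro rfl
  exact e4 (by simpa using ha.2)

theorem tr_off (hF : EA N q F) (h1 : EA N q E₁) (hs : Sim N E₁ E₂) (n : ¬ Sim N F E₁)
    (n1 : ¬ Inc E₁ F) (n2 : ¬ Inc E₂ F) : ∃ f ∈ F, cj f E₁ = E₂ := by
  by_cases e : E₁ = E₂
  · exact ⟨1, one_mem _, (cj_one _).trans e⟩
  obtain ⟨m, hm, i1, i2⟩ := h.join h1 e hs
  have n3 : m ≠ F := by rintro rfl; exact n1 i1
  obtain ⟨A, hA, i3, i4⟩ := h.join hm n3
    ((h.sim_or h1 hm hF i1).resolve_left fun s => n s.symm)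
  obtain ⟨a, ha, e1⟩ := h.tr_line hm hA h1 (hs.ea h1) i3 i1.symm i2.symm
    (by rintro rfl; exact n1 i4.symm) (by rintro rfl; exact n2 i4.symm)
  obtain ⟨x, hx, y, hy, rfl⟩ := h.split hA hF hm i4.symm i3.symm n3.symm ha
  exact ⟨x, hx.2, by rw [← e1, cj_mul, (h.fl h1 hm i1).nr y hy.2]⟩

theorem card_inc (hE : EA N q E) : {F | EA N q F ∧ Inc E F}.ncard = q + 1 := by
  have c := ncard_fib (S := (E : Set G) \ {1}) (T := {F | EA N q F ∧ Inc E F}) (Set.toFinite _)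
    (Set.toFinite _) (fun t F => t ∈ F) (fun t ht => by
      obtain ⟨F, a, b, c⟩ := h.other hE ht.1 ht.2
      exact ⟨F, ⟨a, b⟩, c⟩)
    (fun t ht F hF F' hF' a b => h.eq_of_sim hF.1
      (h.sim_of_inc hF.1 hF'.1 hE hF.2.symm hF'.2.symm) a b ht.2) (m := q - 1) fun F hF => by
      rw [← (h.fl hE hF.1 hF.2).cinf, ← SetLike.coe_sort_coe, Nat.card_coe_set_eq,
        ← Set.ncard_sdiff_singleton_of_mem (one_mem (E ⊓ F))]
      congr 1
      ext t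
      simp only [Set.mem_ofPred_eq, Set.mem_sdiff, SetLike.mem_coe, mem_inf]
      tauto
  rw [Set.ncard_sdiff_singleton_of_mem (one_mem E), ← Nat.card_coe_set_eq (s := (E : Set G))] at c
  have c2 : Nat.card (E : Set G) = q ^ 2 := hE.card
  obtain ⟨r, rfl⟩ : ∃ r, q = r + 1 := ⟨q - 1, by have := h.two_le; omega⟩
  have := h.two_le
  rw [c2, Nat.add_sub_cancel] at c
  refine Nat.eq_of_mul_eq_mul_right (m := r) (by omega) (c.symm.trans ?_)
  rw [Nat.sub_eq_iff_eq_add (Nat.one_le_pow _ _ (by omega))]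
  ring

theorem card_inc' (hE : EA N q E) (hF : EA N q F) (i : Inc E F) :
    {A | EA N q A ∧ Inc E A ∧ A ≠ F}.ncard = q := by
  have := Set.ncard_sdiff_singleton_of_mem (s := {F | EA N q F ∧ Inc E F}) (a := F) ⟨hF, i⟩
  rw [h.card_inc hE, Nat.add_sub_cancel] at this
  refine Eq.trans ?_ this
  congr 1
  ext A
  simp [and_assoc]

theorem card_sim (hE : EA N q E) : {A | Sim N E A}.ncard = q ^ 2 + q + 1 := by
  have c := ncard_fib (S := {A | Sim N E A} \ {E}) (T := {F | EA N q F ∧ Inc E F}) (Set.toFinite _)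
    (Set.toFinite _) (fun A F => Inc A F) (fun A hA => by
      obtain ⟨F, a, b, c⟩ := h.join hE (Ne.symm hA.2) hA.1
      exact ⟨F, ⟨a, b⟩, c⟩)
    (fun A hA F hF F' hF' a b => (h.uniq hE (hA.1.ea hE) hF.1 hF'.1 hF.2 hF'.2 a b).resolve_left
      (Ne.symm hA.2)) (m := q) fun F hF => by
      rw [← h.card_inc' hF.1 hE hF.2.symm]
      congr 1
      ext A
      exact ⟨fun a => ⟨a.1.1.ea hE, a.2.symm, a.1.2⟩, fun a =>
        ⟨⟨h.sim_of_inc hE a.1 hF.1 hF.2 a.2.1.symm, a.2.2⟩, a.2.1.symm⟩⟩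
  rw [← Set.ncard_sdiff_singleton_add_one (s := {A | Sim N E A}) (a := E) (Sim.refl N E), c,
    h.card_inc hE]
  ring

theorem exists_ne₂ (hE : EA N q E) (A B : Subgroup G) :
    ∃ F, EA N q F ∧ Inc E F ∧ F ≠ A ∧ F ≠ B := by
  obtain ⟨F, h1, h2⟩ := Set.exists_mem_notMem_of_ncard_lt_ncard (s := {A, B})
    (t := {F | EA N q F ∧ Inc E F}) (by
      have := h.two_le
      rw [h.card_inc hE]
      exact ((Set.ncard_insert_le _ _).trans (by simp)).trans_lt (show 2 < q + 1 by omega))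
  exact ⟨F, h1.1, h1.2, by simpa [not_or] using h2⟩

omit [Finite G] in
theorem LL_fix (hE : EA N q E) (hl : l ∈ LL N q E) : cj l E = E :=
  cj_eq_of_mem_normalizer (LL_le (X := normalizer (E : Set G))
    (fun F hF i f hf => cj_eq_self_iff.1 ((h.fl hE hF i).nr f hf)) hl)

theorem le_LL_self (hE : EA N q E) : E ≤ LL N q E := fun e he => by
  obtain ⟨F₁, h1, i1⟩ := h.exists_inc hE
  obtain ⟨F₂, h2, i2, n, -⟩ := h.exists_ne₂ hE F₁ F₁
  obtain ⟨a, ha, b, hb, rfl⟩ := h.split hE h1 h2 i1 i2 n.symm he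
  exact mul_mem (le_LL h1 i1 ha.2) (le_LL h2 i2 hb.2)

theorem tr_inc (hE : EA N q E) (h1 : EA N q F₁) (h2 : EA N q F₂) (i1 : Inc E F₁) (i2 : Inc E F₂) :
    ∃ l ∈ LL N q E, cj l F₁ = F₂ := by
  obtain ⟨F, hF, i, n1, n2⟩ := h.exists_ne₂ hE F₁ F₂
  obtain ⟨f, hf, e⟩ := h.tr_line hE hF h1 h2 i i1 i2 n1.symm n2.symm
  exact ⟨f, le_LL hF i hf, e⟩

theorem tr_flag (hE : EA N q E) (hF : EA N q F) (hF' : EA N q F') (i : Inc E F) (i' : Inc E' F')
    (hs : Sim N E E') : ∃ l ∈ N, cj l E = E' ∧ cj l F = F' := by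
  obtain ⟨l, hl, rfl⟩ := hs
  obtain ⟨l', hl', e⟩ := h.tr_inc (hE.cjm hl) (hF.cjm hl) hF' (i.cj l) i'
  exact ⟨l' * l, mul_mem (LL_le_N hl') hl, cmul rfl (h.LL_fix (hE.cjm hl) hl'), cmul rfl e⟩

theorem eq_one_of_fix (hE : EA N q E) (hl : l ∈ N) (hf : ∀ A, Sim N E A → cj l A = A) : l = 1 := by
  let M : Subgroup N :=
    { carrier := {l | ∀ A, Sim N E A → cj (l : G) A = A}
      mul_mem' := fun ha hb A hA => cmul (hb A hA) (ha A hA)
      one_mem' := fun A _ => cj_one A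
      inv_mem' := fun ha A hA => cinv (ha A hA) }
  have := h.simple
  rcases (⟨fun a ha g A hA => by
    change cj ((g : G) * a * (g : G)⁻¹) A = A
    rw [cj_mul, cj_mul, ha _ (hA.trans ⟨_, inv_mem g.2, rfl⟩), cj_cj_inv]⟩ :
      M.Normal).eq_bot_or_eq_top with e | e
  · have h1 : (⟨l, hl⟩ : N) ∈ M := hf
    rwa [e, mem_bot, Subtype.ext_iff] at h1
  · obtain ⟨F, hF, i⟩ := h.exists_inc hE
    obtain ⟨A, hA, i', n, -⟩ := h.exists_ne₂ hF E E
    obtain ⟨g, hg, e'⟩ := h.sim_of_inc hE hA hF i i'.symm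
    exact absurd (e'.symm.trans ((e ▸ mem_top _ : (⟨g, hg⟩ : N) ∈ M) E (.refl _ _))) n

theorem cs_of_fix (hE : EA N q E) (hg : cj g N = N) (hf : ∀ A, Sim N E A → cj g A = A) :
    g ∈ Cs N := mem_Cs.2 fun l hl => (comm_of_eq_one (h.eq_one_of_fix hE (cm_mem_right hg hl)
  fun A hA => by
    rw [cj_mul, cj_mul, cj_mul, cinv (hf _ (hA.trans ⟨_, inv_mem hl, rfl⟩)), cj_cj_inv, hf A hA])).symm

theorem eq_one_of_cs (hl : l ∈ N) (hc : l ∈ Cs N) : l = 1 := by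
  obtain ⟨E, hE⟩ := h.ex
  exact h.eq_one_of_fix hE hl fun A hA =>
    cj_eq_of_mem_centralizer (Gold.Cs_anti (hA.ea hE).le hc)

omit [Finite G] in
theorem gen (hE : EA N q E) {X : Subgroup G} (hX : ∀ A, Sim N E A → A ≤ X) : N ≤ X := by
  have := h.simple
  have hY : ∀ l ∈ N, cj l (sSup {A | Sim N E A}) ≤ sSup {A | Sim N E A} := fun l hl => by
    rw [cj_le_iff_le_cj_inv]
    exact sSup_le fun A hA => cj_le_iff_le_cj_inv.1 (le_sSup (Sim.trans hA ⟨l, hl, rfl⟩))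
  rcases (⟨fun a ha g => hY g g.2 (conj_mem_cj.2 ha)⟩ :
    ((sSup {A | Sim N E A}).subgroupOf N).Normal).eq_bot_or_eq_top with e | e
  · obtain ⟨t, t1, t2⟩ := h.exists_ne_one hE
    have h1 : (⟨t, hE.le t1⟩ : N) ∈ (sSup {A | Sim N E A}).subgroupOf N :=
      le_sSup (s := {A | Sim N E A}) (Sim.refl N E) t1
    rw [e, mem_bot, Subtype.ext_iff] at h1
    exact absurd h1 t2
  · exact (subgroupOf_eq_top.1 e).trans (sSup_le hX)

end Pl

end Cfsg.Lib.Hi3
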