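import Cfsg.Agent.Hi3.Geo
import Cfsg.Agent.Class.SLGen

/-!
# The plane of `L₃(2ⁿ)` in group-theoretic terms: flags, elations, overgroups, Levi factors
-/

set_option autoImplicit false

namespace Cfsg.Lib.Hi3

open Subgroup Cfsg.Lib.Trans
open Cfsg.Lib.Gold (Cs mem_Cs)
open scoped MatrixGroups Pointwise

variable {G : Type*} [Group G] {N E E' E₀ E₁ E₂ F F' F₀ F₁ F₂ A P Q R X : Subgroup G} {q : ℕ}
  {g t t' e e' f z l u : G}

theorem mem_sup_norm (hn : ∀ e ∈ E, cj e F = F) (hu : u ∈ E ⊔ F) : ∃ e ∈ E, ∃ f ∈ F, e * f = u := by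
  have := coe_mul_of_left_le_normalizer_right E F fun e he => cj_eq_self_iff.1 (hn e he)
  exact this.le hu

theorem cj_of_comm (hc : ∀ x ∈ E, x * g = g * x) : cj g E = E :=
  cj_eq_of_mem_centralizer (mem_Cs.2 hc)

theorem SL2_ind {K : Type} [Field K] (H : Subgroup SL(2, K)) (h1 : ∀ c, uu c ∈ H)
    (h2 : ∀ c, ll c ∈ H) (g : SL(2, K)) : g ∈ H := by
  refine (Class.SL_eq_top_of_transvection_mem H fun i j hij c => ?_).ge (mem_top g)
  fin_cases i <;> fin_cases j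
  · exact absurd rfl hij
  · convert h1 c using 1
    ext i j; fin_cases i <;> fin_cases j <;>
      simp [uu, Matrix.SpecialLinearGroup.transvection, Matrix.transvection]
  · convert h2 c using 1
    ext i j; fin_cases i <;> fin_cases j <;>
      simp [ll, Matrix.SpecialLinearGroup.transvection, Matrix.transvection]
  · exact absurd rfl hij

namespace Pl

variable [Finite G] {K : Type} [Field K] (h : Pl N q K)
include h

section flag

variable (hE : EA N q E) (hF : EA N q F) (i : Inc E F)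
include hE hF i

omit [Finite G] in
theorem mem_sup (hu : u ∈ E ⊔ F) : ∃ e ∈ E, ∃ f ∈ F, e * f = u := mem_sup_norm (h.fl hE hF i).nl hu

omit [Finite G] in
theorem sup_fix (hu : u ∈ E ⊔ F) : cj u E = E ∧ cj u F = F := by
  obtain ⟨e, he, f, hf, rfl⟩ := h.mem_sup hE hF i hu
  exact ⟨cmul ((h.fl hE hF i).nr f hf) (cj_eq_of_mem he),
    cmul (cj_eq_of_mem hf) ((h.fl hE hF i).nl e he)⟩

omit [Finite G] in
theorem sq_mem (hu : u ∈ E ⊔ F) : u * u ∈ E ∧ u * u ∈ F := by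
  obtain ⟨e, he, f, hf, rfl⟩ := h.mem_sup hE hF i hu
  have : e * f * (e * f) = e * f * e⁻¹ * f⁻¹ := by rw [hE.inv he, hF.inv hf, ← mul_assoc]
  exact this ▸ ⟨cm_mem_left ((h.fl hE hF i).nr f hf) he, cm_mem_right ((h.fl hE hF i).nl e he) hf⟩

omit [Finite G] in
theorem tw (hu : u ∈ E ⊔ F) : Tw u :=
  ⟨2, by rw [← hE.sq _ (h.sq_mem hE hF i hu).1]; simp [pow_succ, mul_assoc]⟩

omit [Finite G] in
theorem mem_or (hu : u ∈ E ⊔ F) (u2 : u * u = 1) : u ∈ E ∨ u ∈ F := by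
  obtain ⟨e, he, f, hf, rfl⟩ := h.mem_sup hE hF i hu
  have : e * f * e⁻¹ * f⁻¹ = 1 := by rw [hE.inv he, hF.inv hf, mul_assoc, u2]
  exact ((h.fl hE hF i).nc e he f hf (comm_of_eq_one this)).symm.imp (mul_mem he) (mul_mem · hf)

omit [Finite G] in
theorem mem_or_of_fix (ht : t ∈ N) (t2 : t * t = 1) (e1 : cj t E = E) (e2 : cj t F = F) :
    t ∈ E ∨ t ∈ F := by
  by_cases t1 : t = 1
  · exact .inl (t1 ▸ one_mem _)
  have key : ∀ {A B}, EA N q A → EA N q B → Inc A B → t ∈ A → t ∈ B → Sim N A E → t ∈ E ∨ t ∈ F :=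
    fun {A B} hA hB j a b s => by
      have s' : Sim N B F := (h.sim_or hA hB hF j).resolve_left fun c => h.nsim hE hF i (s.symm.trans c)
      rcases h.uniq hA hE hB hF j (h.inc_of_fix hB hA j.symm b a t1 s' e2).symm
        (h.inc_of_fix hA hB j a b t1 s e1) i with rfl | rfl
      exacts [.inl a, .inr b]
  obtain ⟨A, B, hA, hB, n, a, b⟩ := h.thru t ht t2 t1
  have j : Inc A B := ⟨n, t, a, b, t1⟩
  exact (h.sim_or hA hB hE j).elim (key hA hB j a b) (key hB hA j.symm b a)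

omit [Finite G] in
theorem el_le (hX : X ≤ E ⊔ F) (h2 : ∀ x ∈ X, x * x = 1) : X ≤ E ∨ X ≤ F := by
  by_contra! c
  obtain ⟨x, x1, x2⟩ := SetLike.not_le_iff_exists.1 c.1
  obtain ⟨y, y1, y2⟩ := SetLike.not_le_iff_exists.1 c.2
  exact ((h.fl hE hF i).nc y ((h.mem_or hE hF i (hX y1) (h2 y y1)).resolve_right y2) x
    ((h.mem_or hE hF i (hX x1) (h2 x x1)).resolve_left x2) (Gold.comm_of_sq h2 y y1 x x1)).elim y2 x2

omit [Finite G] in
theorem cent (z1 : z ∈ E) (z2 : z ∈ F) (hu : u ∈ E ⊔ F) : u * z = z * u := by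
  obtain ⟨e, he, f, hf, rfl⟩ := h.mem_sup hE hF i hu
  rw [mul_assoc, hF.comm hf z2, ← mul_assoc, hE.comm he z1, mul_assoc]

theorem onto' (hu : u ∈ E ⊔ F) (n : ¬ (u ∈ E ∧ u ∈ F)) (z1 : z ∈ E) (z2 : z ∈ F) :
    ∃ v ∈ E ⊔ F, u * v * u⁻¹ * v⁻¹ = z := by
  obtain ⟨e, he, f, hf, rfl⟩ := h.mem_sup hE hF i hu
  by_cases c : e ∈ F
  · obtain ⟨v, hv, e1⟩ := h.comm_onto hF hE i.symm hf (fun d => n ⟨mul_mem he d, mul_mem c hf⟩) z2 z1
    refine ⟨v, mem_sup_left hv, ?_⟩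
    rw [← e1, show e * f * v * (e * f)⁻¹ = e * (f * v * f⁻¹) * e⁻¹ by group,
      hE.comm he (cmem ((h.fl hE hF i).nr f hf) hv)]
    group
  · obtain ⟨v, hv, e1⟩ := h.comm_onto hE hF i he c z1 z2
    refine ⟨v, mem_sup_right hv, ?_⟩
    rw [← e1, mul_assoc e, hF.comm hf hv]
    group

theorem mem_of_cent (hu : u ∈ E ⊔ F) (c : ∀ v ∈ E ⊔ F, v * u = u * v) : u ∈ E ∧ u ∈ F := by
  by_contra n
  obtain ⟨-, z, z1, z2, z3⟩ := id i
  obtain ⟨v, hv, e⟩ := h.onto' hE hF i hu n z1 z2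
  exact z3 (by rw [← e, ← c v hv]; group)

theorem exists_off : ∃ P, Sim N E P ∧ ¬ Inc P F := by
  obtain ⟨m, hm, j, n, -⟩ := h.exists_ne₂ hE F F
  obtain ⟨P, hP, j', n', -⟩ := h.exists_ne₂ hm E E
  exact ⟨P, h.sim_of_inc hE hP hm j j'.symm, fun c =>
    (h.uniq hP hE hm hF j'.symm c j i).elim n' n⟩

end flag

omit [Finite G] in
theorem fix_of_two (hg : cj g N = N) (hP : EA N q P) (hQ : EA N q Q) (hR : EA N q R) (n : P ≠ Q)
    (i1 : Inc P R) (i2 : Inc Q R) (e1 : cj g P = P) (e2 : cj g Q = Q) : cj g R = R :=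
  ((h.uniq hP hQ (hR.cjn hg) hR (i1.cj' e1 rfl) i1 (i2.cj' e2 rfl) i2).resolve_left n)

/-- A 2-element with an axis is an elation. -/
theorem central (hF : EA N q F) (hg : cj g N = N) (tw : Tw g) (e0 : cj g F = F)
    (e1 : ∀ E, EA N q E → Inc E F → cj g E = E) : ∃ f ∈ F, f * g ∈ Cs N := by
  obtain ⟨E, hE, i⟩ := h.exists_inc hF
  obtain ⟨P, s, n⟩ := h.exists_off hE hF i.symm
  have hP := s.ea hE
  obtain ⟨f, hf, e2⟩ := h.tr_off hF (hP.cjn hg) (E₂ := P)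
    (.trans (.symm (e1 E hE i.symm ▸ s.cjn hg)) s)
    (fun c => h.nsim hE hF i.symm ((e1 E hE i.symm ▸ s.cjn hg).trans c.symm))
    (fun c => n (c.cj' (cj_inv_cj g P) (cinv e0))) n
  refine ⟨f, hf, ?_⟩
  have tw' := tw.mul_left hF.sq e0 hf
  have hg' : cj (f * g) N = N := cmul hg (cj_eq_of_mem (hF.le hf))
  have e0' : cj (f * g) F = F := cmul e0 (cj_eq_of_mem hf)
  have e1' : ∀ E, EA N q E → Inc E F → cj (f * g) E = E := fun E hE i =>
    cmul (e1 E hE i) ((h.fl hE hF i).nr f hf)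
  have e2' : cj (f * g) P = P := cmul rfl e2
  generalize f * g = k at tw' hg' e0' e1' e2'
  have la : ∀ {P m}, EA N q P → ¬ Inc P F → cj k P = P → EA N q m → Inc P m → Sim N F m →
      cj k m = m := fun {P m} hP n e hm j s => by
    have n' : F ≠ m := by rintro rfl; exact n j
    obtain ⟨A, hA, j1, j2⟩ := h.join hF n' s
    exact h.fix_of_two hg' hP hA hm (by rintro rfl; exact n j1.symm) j j2.symm e
      (e1' A hA j1.symm)
  have ty : ∀ {R m}, Sim N E R → EA N q m → Inc R m → Sim N F m := fun {R m} s hm j =>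
    (h.sim_or hE hF hm i.symm).resolve_left fun c => h.nsim (s.ea hE) hm j (s.symm.trans c)
  obtain ⟨m, hm, j⟩ := h.exists_inc hP
  have em := la hP n e2' hm j (ty s hm j)
  obtain ⟨B, hB, j1, j2⟩ := h.join hF (by rintro rfl; exact n j) (ty s hm j)
  obtain ⟨Q, ⟨⟨hQ, j3, n1⟩, n2⟩, eQ⟩ := exists_fix_cj tw'.isPGroup
    ({A | EA N q A ∧ Inc m A ∧ A ≠ P} \ {B}) (by
      rintro _ ⟨r, rfl⟩ A ⟨⟨a1, a2, a3⟩, a4⟩
      have fx : ∀ {Y}, cj k Y = Y → cj (k ^ r) Y = Y := fun e =>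
        cj_eq_of_mem_normalizer (zpow_mem (cj_eq_self_iff.1 e) r)
      exact ⟨⟨a1.cjn (fx hg'), a2.cj' (fx em) rfl, fun c => a3 (cj_inj.1 (c.trans (fx e2').symm))⟩,
        fun c => a4 (cj_inj.1 (Eq.trans c (fx (e1' B hB j1.symm)).symm))⟩) (by
      rw [Set.ncard_sdiff_singleton_of_mem (by exact ⟨hB, j2, by rintro rfl; exact n j1.symm⟩),
        h.card_inc' hm hP j.symm]
      exact Nat.Even.sub_odd (by have := h.two_le; omega) h.even odd_one)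
  replace eQ := eQ k (mem_zpowers k)
  have sQ : Sim N E Q := s.trans (h.sim_of_inc hP hQ hm j j3.symm)
  have nQ : ¬ Inc Q F := fun c =>
    (h.uniq hQ hB hm hF j3.symm c j2.symm j1.symm).elim n2 (by rintro rfl; exact n j)
  refine h.cs_of_fix hF hg' fun m' s' => ?_
  by_cases c1 : m' = F
  · exact c1 ▸ e0'
  by_cases c2 : m' = m
  · exact c2 ▸ em
  have hm' := s'.ea hF
  obtain ⟨X₁, hX', a1, a2⟩ := h.join hm' c1 s'.symm
  obtain ⟨X₂, hX, a3, a4⟩ := h.join hm' c2 (s'.symm.trans (ty s hm j))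
  obtain ⟨R, hR, j4, n3, n4⟩ := h.exists_ne₂ hm' X₁ X₂
  have sR : Sim N E R :=
    (h.sim_or hE hF hR i.symm).resolve_right fun c => h.nsim hm' hR j4 (s'.symm.trans c)
  have nR : ¬ Inc R m := fun c => (h.uniq hR hX hm' hm j4.symm c a3.symm a4.symm).elim n4 c2
  obtain ⟨m₁, b1, b2, b3⟩ := h.join hP (by rintro rfl; exact nR j) (s.symm.trans sR)
  obtain ⟨m₂, b4, b5, b6⟩ := h.join hQ (by rintro rfl; exact nR j3.symm) (sQ.symm.trans sR)
  refine la hR (fun c => ?_) (h.fix_of_two hg' b1 b4 hR ?_ b3.symm b6.symm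
    (la hP n e2' b1 b2 (ty s b1 b2)) (la hQ nQ eQ b4 b5 (ty sQ b4 b5))) hm' j4.symm s'
  · exact (h.uniq hm' hF hR hX' j4 a1 c.symm a2).elim c1 n3
  · rintro rfl
    exact (h.uniq hP hQ hm b1 j b2 j3.symm b5).elim n1.symm (by rintro rfl; exact nR b3)

theorem of_cent (hE : EA N q E) (hg : cj g N = N) (tw : Tw g) (c : g ∈ Cs E) :
    ∃ e ∈ E, e * g ∈ Cs N := by
  refine h.central hE hg tw (cj_eq_of_mem_centralizer c) fun F hF i => ?_
  obtain ⟨n, t, t1, t2, t3⟩ := id i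
  refine (h.eq_or hF hE (hF.cjn hg) n t1 t2 ?_ t3).resolve_right fun d => n ?_
  · have := conj_mem_cj (g := g).2 t1
    rwa [← mem_Cs.1 c t t2, mul_inv_cancel_right] at this
  · exact cj_inj.1 (d.trans (cj_eq_of_mem_centralizer c).symm)

theorem mem_of_cs (hE : EA N q E) (hg : g ∈ N) (tw : Tw g) (c : g ∈ Cs E) : g ∈ E := by
  obtain ⟨e, he, d⟩ := h.of_cent hE (cj_eq_of_mem hg) tw c
  exact eq_inv_of_mul_eq_one_right (h.eq_one_of_cs (mul_mem (hE.le he) hg) d) ▸ inv_mem he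

theorem of_quot (hE : EA N q E) (hF : EA N q F) (i : Inc E F) (hg : cj g N = N) (tw : Tw g)
    (e1 : cj g E = E) (e2 : cj g F = F) (c : ∀ f ∈ F, g * f * g⁻¹ * f⁻¹ ∈ E) :
    ∃ u ∈ E ⊔ F, u * g ∈ Cs N := by
  obtain ⟨F₁, h1, i1, n, -⟩ := h.exists_ne₂ hE F F
  obtain ⟨f, hf, e3⟩ := h.tr_line hE hF (h1.cjn hg) h1 i (i1.cj' e1 rfl) i1
    (fun d => n (cj_inj.1 (d.trans e2.symm))) n
  have l := h.fl hE hF i
  obtain ⟨e, he, d⟩ := h.central hE (g := f * g) (cmul hg (cj_eq_of_mem (hF.le hf)))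
    (tw.mul_left hF.sq e2 hf) (cmul e1 (l.nr f hf)) fun A hA j => by
      by_cases n' : A = F
      · exact n' ▸ cmul e2 (cj_eq_of_mem hf)
      obtain ⟨f', hf', rfl⟩ := h.tr_line hE hF h1 hA i i1 j.symm n n'
      have := (h.fl hE hA j.symm).nl _ (cmem (l.nr f hf) (c f' hf'))
      rw [cj_cj, show f * g * f' = f * (g * f' * g⁻¹ * f'⁻¹) * f⁻¹ * (f' * (f * g)) by
        rw [← mul_assoc f', ← hF.comm hf hf']; group, cj_mul, cj_mul f', cmul rfl e3, this]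
  exact ⟨e * f, mul_mem (mem_sup_left he) (mem_sup_right hf), by rwa [mul_assoc]⟩

theorem le_of_off (hF : EA N q F) (hA : EA N q A) (ns : ¬ Sim N F A) (n : ¬ Inc A F) (h1 : F ≤ X)
    (h2 : A ≤ X) : N ≤ X := by
  have k : ∀ B, Sim N A B → ¬ Inc B F → B ≤ X := fun B s n' => by
    obtain ⟨f, hf, rfl⟩ := h.tr_off hF hA s ns n n'
    exact (cj_mono f h2).trans (cj_eq_of_mem (h1 hf)).le
  refine h.gen hA fun J s => ?_
  by_cases j : Inc J F
  swap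
  · exact k J s j
  have hJ := s.ea hA
  have n1 : A ≠ J := by rintro rfl; exact n j
  obtain ⟨P, hP, j1, j2⟩ := h.join hA n1 s
  obtain ⟨B, hB, j3, n2, n3⟩ := h.exists_ne₂ hP A J
  obtain ⟨f, hf, rfl⟩ := h.tr_line hP hA hB hJ j1.symm j3 j2.symm n2 n1.symm
  exact (cj_mono f (k B (h.sim_of_inc hA hB hP j1 j3.symm) fun c =>
    (h.uniq hB hJ hP hF j3.symm c j2 j).elim n3 (by rintro rfl; exact n j1))).trans
    (cj_eq_of_mem (h2 hf)).le

theorem over_aux (hE : EA N q E) (hF : EA N q F) (hA : EA N q A) (i : Inc E F) (h1 : E ≤ X)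
    (h2 : F ≤ X) (h3 : A ≤ X) (s : Sim N F A) (n : A ≠ F) (hX : ¬ N ≤ X) :
    (∀ M, EA N q M → Inc E M → M ≤ X) ∧ ∀ M, EA N q M → M ≤ X → M = E ∨ Inc E M := by
  have k : ∀ {M}, EA N q M → M ≤ X → Sim N F M → Inc E M := fun hM hm s => by_contra fun c =>
    hX (h.le_of_off hE hM (fun d => h.nsim hE hF i (d.trans s.symm)) (fun d => c d.symm) h1 hm)
  have k2 : ∀ M, EA N q M → Inc E M → M ≤ X := fun M hM j => by
    by_cases c : M = F
    · exact c ▸ h2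
    obtain ⟨f, hf, rfl⟩ := h.tr_line hE hF hA hM i (k hA h3 s) j n c
    exact (cj_mono f h3).trans (cj_eq_of_mem (h2 hf)).le
  refine ⟨k2, fun M hM hm => (h.sim_or hE hF hM i).imp (fun s' => by_contra fun c => hX ?_) (k hM hm)⟩
  obtain ⟨J, hJ, j1, j2⟩ := h.join hE (Ne.symm c) s'
  obtain ⟨B, hB, j3, n1, -⟩ := h.exists_ne₂ hE J J
  exact h.le_of_off hM hB (fun d => h.nsim hE hB j3 (s'.trans d))
    (fun d => (h.uniq hE hM hB hJ j3 j1 d.symm j2).elim (Ne.symm c) n1) hm (k2 B hB j3)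

/-- Proper overgroups of the group of a flag. -/
theorem overgp (hE : EA N q E) (hF : EA N q F) (i : Inc E F) (h1 : E ≤ X) (h2 : F ≤ X)
    (hX : ¬ N ≤ X) : (∀ M, EA N q M → M ≤ X → M = E ∨ M = F) ∨ ∃ P, EA N q P ∧ P ≤ X ∧
      (∀ M, EA N q M → Inc P M → M ≤ X) ∧ ∀ M, EA N q M → M ≤ X → M = P ∨ Inc P M := by
  refine or_iff_not_imp_left.2 fun c => ?_
  push Not at c
  obtain ⟨A, hA, h3, n1, n2⟩ := c
  rcases h.sim_or hE hF hA i with s | s
  · exact ⟨F, hF, h2, h.over_aux hF hE hA i.symm h2 h1 h3 s n1 hX⟩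
  · exact ⟨E, hE, h1, h.over_aux hE hF hA i h1 h2 h3 s n2 hX⟩

theorem sl' (hE : EA N q E) (hE' : EA N q E') (hF : EA N q F) (i : Inc E F) (i' : Inc E' F)
    (n : E ≠ E') : ∃ φ : SL(2, K) →* G, S2 N q E E' F φ := by
  obtain ⟨A, A', B, φ, s, hA, hA', hB, j, j', m, hφ⟩ := h.sl hE
  obtain ⟨l, hl, rfl, rfl⟩ := h.tr_flag hA hB hF j i s
  obtain ⟨e, he, rfl⟩ := h.tr_line hF hE (hA'.cjm hl) hE' i.symm (j'.cj l).symm i'.symm
    (fun c => m (cj_inj.1 c).symm) n.symm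
  have := (hφ.cj l).cj e
  rw [cj_eq_of_mem hl, cj_eq_of_mem (hE.le he), cj_eq_of_mem he, (h.fl hE hF i).nl e he] at this
  exact ⟨_, this⟩

theorem dec (hE : EA N q E) (hF : EA N q F) (i : Inc E F) (ψ : K → G) (h1 : ∀ c, ψ c ∈ E)
    (h2 : ∀ a b, (ψ a)⁻¹ * ψ b ∈ F → a = b) (he : e ∈ E) : ∃ c, (ψ c)⁻¹ * e ∈ F := by
  have := h.fin
  let f : K × ↥(E ⊓ F) → E := fun x => ⟨ψ x.1 * x.2, mul_mem (h1 _) x.2.2.1⟩
  have hi : Function.Injective f := fun x y e => by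
    have e1 : ψ x.1 * x.2 = ψ y.1 * y.2 := congrArg Subtype.val e
    have e2 : x.1 = y.1 := h2 _ _ (by
      rw [show (ψ x.1)⁻¹ * ψ y.1 = x.2 * (y.2 : G)⁻¹ by
        rw [inv_mul_eq_iff_eq_mul, ← mul_assoc, e1, mul_inv_cancel_right]]
      exact mul_mem x.2.2.2 (inv_mem y.2.2.2))
    exact Prod.ext e2 (Subtype.ext (mul_left_cancel (e2 ▸ e1)))
  obtain ⟨x, hx⟩ := ((Nat.bijective_iff_injective_and_card f).2 ⟨hi, by
    rw [Nat.card_prod, (h.fl hE hF i).cinf, h.card, hE.card, pow_two]⟩).2 ⟨e, he⟩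
  exact ⟨x.1, by rw [← show ψ x.1 * x.2 = e from congrArg Subtype.val hx]; simpa using x.2.2.2⟩

section levi

variable {φ : SL(2, K) →* G} (hE : EA N q E) (hE' : EA N q E') (hF : EA N q F) (i : Inc E F)
  (i' : Inc E' F) (s : S2 N q E E' F φ)

omit h [Finite G] in
include hE hE' i i' s in
theorem mem_LL (x : SL(2, K)) : φ x ∈ LL N q F :=
  SL2_ind ((LL N q F).comap φ) (fun c => le_LL hE i.symm (s.up c))
    (fun c => le_LL hE' i'.symm (s.lo c)) x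

omit h [Finite G] in
include s in
theorem uu_mem {c : K} (hc : φ (uu c) ∈ F) : c = 0 := uu_eq_one.1 (s.inj _ hc)

include hE hF i s in
theorem dec_uu (he : e ∈ E) : ∃ c, (φ (uu c))⁻¹ * e ∈ F :=
  h.dec hE hF i (fun c => φ (uu c)) s.up (fun a b c => by
    have := s.inj ((uu a)⁻¹ * uu b) (by simpa using c)
    rw [inv_mul_eq_one, ← add_zero a, ← add_sub_cancel a b, uu_add, uu_add, mul_right_inj,
      uu_eq_one.2 rfl, eq_comm, uu_eq_one, sub_eq_zero] at this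
    exact this.symm) he

omit [Finite G] in
include hE hE' i i' s in
theorem dg_fix (a : Kˣ) : cj (φ (dg a)) E = E := by
  have hl := LL_le_N (mem_LL hE hE' i i' s (dg a))
  refine (h.eq_of_sim hE ⟨_, hl, rfl⟩ (s.up (a * a * 1)) ?_ fun c => ?_).symm
  · rw [← dg_uu, map_mul, map_mul, map_inv]; exact conj_mem_cj.2 (s.up 1)
  · exact absurd (uu_mem s (c ▸ one_mem F)) (by simp)

omit [Finite G] in
include hE hE' hF i i' s in
theorem ww_cj : cj (φ ww) E = E' := by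
  have hl := LL_le_N (mem_LL hE hE' i i' s ww)
  refine h.eq_of_sim (hE.cjm hl) (.trans (.symm ⟨_, hl, rfl⟩) (h.sim_of_inc hE hE' hF i i'))
    (conj_mem_cj.2 (s.up 1)) ?_ fun c => ?_
  · rw [← map_inv, ← map_mul, ← map_mul, ww_uu]; exact s.lo _
  · exact one_ne_zero (uu_mem s (conj_eq_one_iff.1 c ▸ one_mem F))

include hE hE' hF i i' s in
theorem LL_dec (n : E ≠ E') (hl : l ∈ LL N q F) : ∃ x, (φ x)⁻¹ * l ∈ F := by
  have k1 : E ≤ φ.range ⊔ F := fun e he => by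
    obtain ⟨c, hc⟩ := h.dec_uu hE hF i s he
    simpa using mul_mem (mem_sup_left (T := F) (show φ (uu c) ∈ φ.range from ⟨_, rfl⟩)) (mem_sup_right hc)
  have k2 : E' ≤ φ.range ⊔ F := h.ww_cj hE hE' hF i i' s ▸
    (cj_mono _ k1).trans (cj_eq_of_mem (mem_sup_left (show φ ww ∈ φ.range from ⟨_, rfl⟩))).le
  obtain ⟨_, ⟨x, rfl⟩, f, hf, rfl⟩ := mem_sup_norm (E := φ.range) (by rintro _ ⟨x, rfl⟩; exact s.nm x)
    (LL_le (X := φ.range ⊔ F) (fun A hA j => by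
      by_cases c : A = E
      · exact c ▸ k1
      obtain ⟨e, he, rfl⟩ := h.tr_line hF hE hE' hA i.symm i'.symm j n.symm c
      exact (cj_mono e k2).trans (cj_eq_of_mem (k1 he)).le) hl)
  exact ⟨x, by simpa using hf⟩

end levi

theorem exists_sq (c : K) : ∃ a, a * a = c := by
  have := h.fin
  refine (Finite.injective_iff_surjective (f := fun a : K => a * a)).1 (fun a b e => ?_) c
  have e1 : (a - b) * (a - b) = 0 := by
    have := h.char
    dsimp only at e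
    linear_combination e + (b * b - a * b) * this
  exact sub_eq_zero.1 (mul_self_eq_zero.1 e1)

theorem torus (hE : EA N q E) (hF : EA N q F) (i : Inc E F) (he : e ∈ E) (he' : e' ∈ E)
    (n : e ∉ F) (n' : e' ∉ F) : ∃ d ∈ LL N q F, cj d E = E ∧ e'⁻¹ * (d * e * d⁻¹) ∈ F := by
  obtain ⟨E', hE', i', m, -⟩ := h.exists_ne₂ hF E E
  obtain ⟨φ, s⟩ := h.sl' hE hE' hF i i'.symm m.symm
  obtain ⟨c, hc⟩ := h.dec_uu hE hF i s he
  obtain ⟨c', hc'⟩ := h.dec_uu hE hF i s he'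
  have c0 : c ≠ 0 := by rintro rfl; exact n (by simpa [uu_eq_one.2 rfl] using hc)
  have c0' : c' ≠ 0 := by rintro rfl; exact n' (by simpa [uu_eq_one.2 rfl] using hc')
  obtain ⟨a, ha⟩ := h.exists_sq (c' / c)
  have a0 : a ≠ 0 := by rintro rfl; exact div_ne_zero c0' c0 (by rw [← ha, mul_zero])
  refine ⟨_, mem_LL hE hE' i i'.symm s (dg (.mk0 a a0)), h.dg_fix hE hE' i i'.symm s _, ?_⟩
  have e1 := congrArg φ (dg_uu (.mk0 a a0) c)
  rw [map_mul, map_mul, map_inv, Units.val_mk0, ha, div_mul_cancel₀ _ c0] at e1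
  have := mul_mem (inv_mem hc') (cmem (s.nm (dg (.mk0 a a0))) hc)
  rw [← e1] at this
  convert this using 1
  group

/-- All involutions are conjugate. -/
theorem conj_invol (ht : t ∈ N) (t2 : t * t = 1) (t1 : t ≠ 1) (ht' : t' ∈ N) (t2' : t' * t' = 1)
    (t1' : t' ≠ 1) : ∃ l ∈ N, l * t * l⁻¹ = t' := by
  obtain ⟨E, F, hE, hF, n, a, b⟩ := h.thru t ht t2 t1
  have i : Inc E F := ⟨n, t, a, b, t1⟩
  obtain ⟨E', F', hE', hF', i', a', b', s⟩ : ∃ E' F', EA N q E' ∧ EA N q F' ∧ Inc E' F' ∧ t' ∈ E' ∧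
      t' ∈ F' ∧ Sim N E E' := by
    obtain ⟨A, B, hA, hB, n, a, b⟩ := h.thru t' ht' t2' t1'
    have j : Inc A B := ⟨n, t', a, b, t1'⟩
    rcases h.sim_or hA hB hE j with s | s
    exacts [⟨A, B, hA, hB, j, a, b, s.symm⟩, ⟨B, A, hB, hA, j.symm, b, a, s.symm⟩]
  obtain ⟨l, hl, e1, e2⟩ := h.tr_flag hE hF hF' i i' s
  obtain ⟨F₂, h2, i2, n2, -⟩ := h.exists_ne₂ hE' F' F'
  have k : ∀ {x}, x ∈ F' → x ≠ 1 → x ∉ F₂ := fun x1 x2 c =>
    n2 (h.eq_of_sim h2 (h.sim_of_inc h2 hF' hE' i2.symm i'.symm) c x1 x2)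
  obtain ⟨d, hd, e3, e4⟩ := h.torus hE' h2 i2 (cmem e1 a) a' (k (cmem e2 b) (by simpa using t1))
    (k b' t1')
  have m := cmem e3 (cmem e1 a)
  obtain ⟨f, hf, e5⟩ := h.comm_onto hE' h2 i2 a' (k b' t1') (mul_mem (inv_mem a') m) e4
  refine ⟨f⁻¹ * d * l, mul_mem (mul_mem (inv_mem (h2.le hf)) (LL_le_N hd)) hl, ?_⟩
  have : d * (l * t * l⁻¹) * d⁻¹ = f * t'⁻¹ * f⁻¹ := by
    rw [← mul_right_inj t'⁻¹, ← e5, hE'.inv a']; group
  rw [hE'.inv a'] at this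
  calc _ = f⁻¹ * (d * (l * t * l⁻¹) * d⁻¹) * f := by group
    _ = t' := by rw [this]; group

end Pl

end Cfsg.Lib.Hi3
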