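import Cfsg.Agent.Hi3.Geo2
import Cfsg.Agent.Class.RootSL
import Cfsg.Agent.Class.PSLSimple
import Cfsg.Agent.Known.PSLAutTv
import Cfsg.Agent.Chev.LaceSL

/-!
# The plane of `L₃(2ⁿ)`: the model
-/

set_option autoImplicit false

namespace Cfsg.Lib.Hi3

open Subgroup Cfsg.Lib.Trans Cfsg.Lib.Class Matrix
open Cfsg.Lib.Chev (up3 lo3 coe_up3 coe_lo3)
open scoped MatrixGroups

variable {K : Type} [Field K] {G : Type*} [Group G] {π σ : SL(3, K) →* G}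
  {v w f g v' f' : Fin 3 → K} {a b : SL(3, K)} {x t : G} {q : ℕ} {E F A : Subgroup G}

theorem dep_of_cross (hv : v ≠ 0) (h : v ⨯₃ w = 0) : ∃ c : K, w = c • v := by
  have := mt crossProduct_ne_zero_iff_linearIndependent.2 (not_not.2 h)
  rw [LinearIndependent.pair_iff' hv] at this
  push Not at this
  exact this.imp fun _ e => e.symm

theorem dep_or (hv : v ≠ 0) (hf : f ≠ 0) (h1 : f ⬝ᵥ v = 0) (h2 : f ⬝ᵥ w = 0) (h3 : g ⬝ᵥ v = 0)
    (h4 : g ⬝ᵥ w = 0) : (∃ c : K, g = c • f) ∨ ∃ c : K, w = c • v := by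
  refine or_iff_not_imp_right.2 fun n => ?_
  have hu : v ⨯₃ w ≠ 0 := fun e => n (dep_of_cross hv e)
  have k : ∀ {y : Fin 3 → K}, y ⬝ᵥ v = 0 → y ⬝ᵥ w = 0 → ∃ c : K, y = c • (v ⨯₃ w) := fun e1 e2 =>
    dep_of_cross hu (by
      rw [← cross_anticomm, cross_cross_eq_smul_sub_smul', e2, dotProduct_comm, e1]; simp)
  obtain ⟨c, rfl⟩ := k h1 h2
  obtain ⟨d, rfl⟩ := k h3 h4
  have : c ≠ 0 := by rintro rfl; simp at hf
  exact ⟨d / c, by rw [smul_smul, div_mul_cancel₀ _ this]⟩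

theorem tvS_sq (h2 : (2 : K) = 0) (h : f ⬝ᵥ v = 0) : tvS v f * tvS v f = 1 := by
  rw [← tvS_add_right h h, ← two_smul K, h2, zero_smul, tvS_zero_right]

theorem par_of_tvS (h : f ⬝ᵥ v = 0) (h' : f' ⬝ᵥ v' = 0) (hf : f ≠ 0) (e : tvS v f = tvS v' f') :
    ∃ c : K, v = c • v' := by
  obtain ⟨y, hy, -⟩ := exists_dot_eq_one_dot_ne_zero hf hf
  have := tvS_mulVec h y
  rw [e, tvS_mulVec h', hy, one_smul, add_right_inj] at this
  exact ⟨_, this.symm⟩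

theorem center_cube (h : a ∈ center SL(3, K)) : a * a * a = 1 := by
  obtain ⟨r, hr, e⟩ := Matrix.SpecialLinearGroup.mem_center_iff.1 h
  refine Subtype.ext (show a.1 * a.1 * a.1 = 1 from ?_)
  rw [← e, ← map_mul, ← map_mul, ← pow_three', show r ^ 3 = 1 by simpa using hr, map_one]

theorem exists_tvS (h2 : (2 : K) = 0) (h : a * a ∈ center SL(3, K)) :
    ∃ v f : Fin 3 → K, f ⬝ᵥ v = 0 ∧ a * a * a = tvS v f := by
  have e : a * a * a * (a * a * a) = 1 := by rw [← center_cube h]; group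
  generalize a * a * a = b at e
  have hAA : (b.1 - 1) * (b.1 - 1) = 0 := by
    have e1 : b.1 * b.1 = 1 := congrArg Subtype.val e
    have e2 : (2 : K) • (1 - b.1) = 0 := by rw [h2, zero_smul]
    rw [Matrix.sub_mul, Matrix.mul_sub, Matrix.mul_sub, e1, ← e2, Matrix.mul_one, Matrix.one_mul,
      Matrix.mul_one]
    module
  have hrk := rank_add_rank_le_card_of_mul_eq_zero hAA
  rw [Fintype.card_fin] at hrk
  obtain ⟨v, f, hvf⟩ := exists_vecMulVec_of_rank_le_one (A := b.1 - 1) (by omega)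
  rw [hvf, vecMulVec_mul_self, smul_eq_zero] at hAA
  rcases hAA with c | c
  · exact ⟨v, f, c, Subtype.ext ((sub_eq_iff_eq_add'.1 hvf).trans (tvS_coe c).symm)⟩
  · exact ⟨0, 0, by simp, by rw [tvS_zero_left]; exact Subtype.ext (sub_eq_zero.1 (hvf.trans c))⟩

/-- The transvections with a given centre. -/
def PP (π : SL(3, K) →* G) (v : Fin 3 → K) : Subgroup G where
  carrier := {x | ∃ f, f ⬝ᵥ v = 0 ∧ x = π (tvS v f)}
  one_mem' := ⟨0, by simp, by rw [tvS_zero_right, map_one]⟩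
  mul_mem' := by
    rintro _ _ ⟨f, hf, rfl⟩ ⟨g, hg, rfl⟩
    exact ⟨f + g, by rw [add_dotProduct, hf, hg, add_zero], by rw [tvS_add_right hf hg, map_mul]⟩
  inv_mem' := by
    rintro _ ⟨f, hf, rfl⟩
    exact ⟨-f, by simp [hf], by
      rw [← map_inv, tvS_inv hf, ← neg_one_smul K v, tvS_smul_left _ hf, neg_one_smul]⟩

theorem PP_eq_1' : type_of% @PP.eq_1 := @PP.eq_1

theorem tv_mem (h : f ⬝ᵥ v = 0) : π (tvS v f) ∈ PP π v := ⟨f, h, rfl⟩

theorem smul_le (c : K) : PP π (c • v) ≤ PP π v := by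
  by_cases c0 : c = 0
  · rintro _ ⟨f, -, rfl⟩
    simp [c0, tvS_zero_left]
  rintro _ ⟨f, hf, rfl⟩
  have : f ⬝ᵥ v = 0 := by simpa [c0] using hf
  exact ⟨c • f, by simp [this], by rw [tvS_smul_left _ this]⟩

theorem cj_PP_le (a : SL(3, K)) : cj (π a) (PP π v) ≤ PP π (a.1 *ᵥ v) := by
  rintro _ ⟨_, ⟨f, hf, rfl⟩, rfl⟩
  refine ⟨f ᵥ* (a⁻¹).1, ?_, by rw [← conj_tvS a hf]; simp⟩
  rw [← dotProduct_mulVec, ← SL_mul_mulVec, inv_mul_cancel]
  simpa using hf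

theorem cj_PP (a : SL(3, K)) : cj (π a) (PP π v) = PP π (a.1 *ᵥ v) := by
  refine (cj_PP_le a).antisymm (cj_inv_le_iff_le_cj.1 ?_)
  have := cj_PP_le (π := π) (v := a.1 *ᵥ v) a⁻¹
  rw [← SL_mul_mulVec, inv_mul_cancel, map_inv] at this
  simpa using this

theorem mulVec_ne (a : SL(3, K)) (hv : v ≠ 0) : a.1 *ᵥ v ≠ 0 := fun e => hv (by
  have := SL_mul_mulVec a⁻¹ a v
  rw [e, inv_mul_cancel] at this
  simpa using this)

/-- A pair of dual coverings. -/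
structure Du (π σ : SL(3, K) →* G) (q : ℕ) : Prop where
  fin : Finite K
  card : Nat.card K = q
  char : (2 : K) = 0
  k1 : ∀ a, π a = 1 ↔ a ∈ center SL(3, K)
  k2 : ∀ a, σ a = 1 ↔ a ∈ center SL(3, K)
  rg : π.range = σ.range
  tv : ∀ v f, f ⬝ᵥ v = 0 → σ (tvS v f) = π (tvS f v)

namespace Du

variable (h : Du π σ q)
include h

theorem symm : Du σ π q :=
  ⟨h.fin, h.card, h.char, h.k2, h.k1, h.rg.symm, fun v f e =>
    (h.tv f v (by rwa [dotProduct_comm])).symm⟩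

theorem eq_of_sq (ha : a * a = 1) (hb : b * b = 1) (e : π a = π b) : a = b := by
  have hz := (h.k1 (a⁻¹ * b)).1 (by rw [map_mul, map_inv, e, inv_mul_cancel])
  have h3 := center_cube hz
  obtain ⟨z, rfl⟩ : ∃ z, b = a * z := ⟨a⁻¹ * b, by group⟩
  rw [inv_mul_cancel_left] at hz h3
  rw [mul_assoc, ← mul_assoc z, ← mem_center_iff.1 hz a, mul_assoc, ← mul_assoc a, ha, one_mul] at hb
  rw [hb, one_mul] at h3
  rw [h3, mul_one]

theorem lift (hx : x ∈ π.range) (x2 : x * x = 1) : ∃ v f, f ⬝ᵥ v = 0 ∧ x = π (tvS v f) := by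
  obtain ⟨a, rfl⟩ := hx
  obtain ⟨v, f, e1, e2⟩ := exists_tvS h.char ((h.k1 (a * a)).1 (by rw [map_mul, x2]))
  exact ⟨v, f, e1, by rw [← e2, map_mul, map_mul, x2, one_mul]⟩

theorem tv_inj (h1 : f ⬝ᵥ v = 0) (h2 : f' ⬝ᵥ v' = 0) (e : π (tvS v f) = π (tvS v' f')) :
    tvS v f = tvS v' f' := h.eq_of_sq (tvS_sq h.char h1) (tvS_sq h.char h2) e

theorem tv_eq_one (h1 : f ⬝ᵥ v = 0) : π (tvS v f) = 1 ↔ v = 0 ∨ f = 0 := by
  rw [← tvS_eq_one_iff h1]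
  exact ⟨fun e => h.eq_of_sq (tvS_sq h.char h1) (one_mul _) (by rw [e, map_one]),
    fun e => by rw [e, map_one]⟩

theorem tv_inj' (hv : v ≠ 0) (h1 : f ⬝ᵥ v = 0) (h2 : g ⬝ᵥ v = 0) (e : π (tvS v f) = π (tvS v g)) :
    f = g := by
  have := (tvS_eq_one_iff (v := v) (f := f + g) (by rw [add_dotProduct, h1, h2, add_zero])).1 (by
    rw [tvS_add_right h1 h2, h.tv_inj h1 h2 e, tvS_sq h.char h2])
  rw [eq_neg_of_add_eq_zero_left (this.resolve_left hv), neg_eq_iff_add_eq_zero, ← two_smul K, h.char,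
    zero_smul]

theorem mem_dual : x ∈ PP σ f ↔ ∃ w, f ⬝ᵥ w = 0 ∧ x = π (tvS w f) :=
  exists_congr fun w => by
    rw [dotProduct_comm f]
    exact and_congr_right fun e => by rw [h.tv f w e]

theorem tv_mem' (e : f ⬝ᵥ v = 0) : π (tvS v f) ∈ PP σ f := h.mem_dual.2 ⟨v, e, rfl⟩

theorem card_PP (hv : v ≠ 0) : Nat.card (PP π v) = q ^ 2 := by
  have := h.fin
  let ψ : (Fin 3 → K) →+ K := AddMonoidHom.mk' (fun f => f ⬝ᵥ v) fun a b => add_dotProduct a b v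
  have hs : ψ.range = ⊤ := AddMonoidHom.range_eq_top.2 fun c => by
    obtain ⟨y, hy, -⟩ := exists_dot_eq_one_dot_ne_zero hv hv
    exact ⟨c • y, by simp [ψ, dotProduct_comm y, hy]⟩
  have hc := ψ.ker.card_mul_index
  rw [AddSubgroup.index_ker, hs, AddSubgroup.card_top, Nat.card_fun, h.card] at hc
  rw [← Nat.card_eq_of_bijective (fun f : ψ.ker => (⟨_, tv_mem (f := f.1) f.2⟩ : PP π v))
    ⟨fun f g e => Subtype.ext (h.tv_inj' hv f.2 g.2 (congrArg Subtype.val e)), by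
      rintro ⟨_, f, hf, rfl⟩
      exact ⟨⟨f, hf⟩, rfl⟩⟩]
  refine Nat.eq_of_mul_eq_mul_right (h.card ▸ Nat.card_pos) (hc.trans ?_)
  simp [pow_succ]

theorem ea (hv : v ≠ 0) : EA π.range q (PP π v) :=
  ⟨by rintro _ ⟨f, -, rfl⟩; exact ⟨_, rfl⟩, by
    rintro _ ⟨f, hf, rfl⟩
    rw [← map_mul, tvS_sq h.char hf, map_one], h.card_PP hv⟩

theorem ea' (hv : v ≠ 0) : EA π.range q (PP σ v) := h.rg ▸ h.symm.ea hv

theorem par (h1 : t ∈ PP π v) (h2 : t ∈ PP π v') (t1 : t ≠ 1) : ∃ c : K, v = c • v' := by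
  obtain ⟨f, hf, rfl⟩ := h1
  obtain ⟨f', hf', e⟩ := h2
  exact par_of_tvS hf hf' (by rintro rfl; exact t1 ((h.tv_eq_one hf).2 (.inr rfl))) (h.tv_inj hf hf' e)

theorem PP_eq (h1 : t ∈ PP π v) (h2 : t ∈ PP π v') (t1 : t ≠ 1) : PP π v = PP π v' := by
  obtain ⟨c, e⟩ := h.par h1 h2 t1
  obtain ⟨d, e'⟩ := h.par h2 h1 t1
  exact le_antisymm (e ▸ smul_le c) (e' ▸ smul_le d)

theorem dot_eq (h1 : t ∈ PP π v) (h2 : t ∈ PP σ f) (t1 : t ≠ 1) : f ⬝ᵥ v = 0 := by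
  obtain ⟨w, hw, rfl⟩ := h.mem_dual.1 h2
  obtain ⟨c, rfl⟩ := h.par h1 (tv_mem hw) t1
  simp [hw]

theorem cinf (hv : v ≠ 0) (hf : f ≠ 0) (e : f ⬝ᵥ v = 0) : Nat.card ↥(PP π v ⊓ PP σ f) = q := by
  have k : ∀ c : K, (c • f) ⬝ᵥ v = 0 := fun c => by simp [e]
  rw [← h.card, ← Nat.card_eq_of_bijective (fun c : K => (⟨_, tv_mem (k c),
    tvS_smul_left c e ▸ h.tv_mem' (by simp [e])⟩ : ↥(PP π v ⊓ PP σ f)))
    ⟨fun c d e => smul_left_injective K hf (h.tv_inj' hv (k c) (k d) (congrArg Subtype.val e)), ?_⟩]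
  rintro ⟨_, ⟨g, hg, rfl⟩, h2⟩
  by_cases t1 : π (tvS v g) = 1
  · exact ⟨0, Subtype.ext (by simp [t1, tvS_zero_right])⟩
  obtain ⟨c, rfl⟩ := h.symm.par (h.tv_mem' hg) h2 t1
  exact ⟨c, rfl⟩

theorem two_le : 2 ≤ q := by
  have := h.fin
  exact h.card ▸ Finite.one_lt_card

theorem ne (hv : v ≠ 0) (hf : f ≠ 0) : PP π v ≠ PP σ f := fun e => by
  obtain ⟨g, hg, g0⟩ := exists_dot_zero_ne_zero (ι := Fin 3) (by simp) v
  rw [dotProduct_comm] at hg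
  have := h.cinf hv hf (h.dot_eq (tv_mem hg) (e ▸ tv_mem hg) (by simp [h.tv_eq_one hg, hv, g0]))
  rw [← e, inf_idem, h.card_PP hv] at this
  nlinarith [h.two_le]

theorem inc (hv : v ≠ 0) (hf : f ≠ 0) (e : f ⬝ᵥ v = 0) : Inc (PP π v) (PP σ f) :=
  ⟨h.ne hv hf, _, tv_mem e, h.tv_mem' e, by simp [h.tv_eq_one e, hv, hf]⟩

theorem nl (e : f ⬝ᵥ v = 0) (hx : x ∈ PP π v) : cj x (PP σ f) = PP σ f := by
  have k : ∀ x ∈ PP π v, cj x (PP σ f) ≤ PP σ f := by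
    rintro _ ⟨g, hg, rfl⟩ _ ⟨y, hy, rfl⟩
    change _ * y * _ ∈ _
    obtain ⟨w, hw, rfl⟩ := h.mem_dual.1 hy
    have := congrArg π (tvS_commutator hg hw e)
    rw [map_mul, map_mul, map_mul, map_inv, map_inv, mul_inv_eq_iff_eq_mul, ← tvS_smul_left _ e] at this
    exact this.symm ▸ mul_mem (h.tv_mem' (by simp [e])) hy
  exact (k x hx).antisymm (cj_inv_le_iff_le_cj.1 (k _ (inv_mem hx)))

theorem fl (hv : v ≠ 0) (hf : f ≠ 0) (e : f ⬝ᵥ v = 0) : Fl q (PP π v) (PP σ f) := by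
  refine ⟨h.cinf hv hf e, fun _ => h.nl e, fun _ => h.symm.nl (by rwa [dotProduct_comm]), ?_⟩
  rintro _ ⟨g, hg, rfl⟩ y hy c
  obtain ⟨w, hw, rfl⟩ := h.mem_dual.1 hy
  have := congrArg π (tvS_commutator hg hw e)
  rw [map_mul, map_mul, map_mul, map_inv, map_inv, c, eq_comm, mul_inv_cancel_right, mul_inv_cancel,
    h.tv_eq_one (by simp [e]), smul_eq_zero, or_iff_right hv, or_iff_left hf] at this
  rcases dep_or hv hf e hw hg this with ⟨d, rfl⟩ | ⟨d, rfl⟩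
  · exact .inl (smul_le d (h.tv_mem' hg))
  · exact .inr (smul_le d (tv_mem hw))

theorem dep (hE : EA π.range q E) (h1 : f ⬝ᵥ v = 0) (h2 : g ⬝ᵥ w = 0) (m1 : π (tvS v f) ∈ E)
    (m2 : π (tvS w g) ∈ E) (t1 : π (tvS v f) ≠ 1) :
    π (tvS w g) ∈ PP π v ∨ π (tvS w g) ∈ PP σ f := by
  obtain ⟨v', f', e1, e2⟩ := h.lift (hE.le (mul_mem m1 m2)) (hE.sq _ (mul_mem m1 m2))
  have e3 : tvS w g = tvS v f * tvS w g * tvS v f := h.eq_of_sq (tvS_sq h.char h2) (by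
    rw [show ∀ a b : SL(3, K), a * b * a * (a * b * a) = a * b * (a * a) * b * a from
      fun a b => by group, tvS_sq h.char h1, mul_one, mul_assoc _ _ (tvS w g), tvS_sq h.char h2,
      mul_one, tvS_sq h.char h1]) (by
    rw [map_mul, map_mul, hE.comm m1 m2, mul_assoc, hE.sq _ m1, mul_one])
  rw [Ne, h.tv_eq_one h1, not_or] at t1
  rcases Known.dep_of_tvS_mul_tvS h1 h2 e1 t1.1 t1.2 (h.eq_of_sq (by
    rw [← mul_assoc, ← e3, tvS_sq h.char h2]) (tvS_sq h.char e1) (by rw [map_mul, e2])) with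
    ⟨d, rfl⟩ | ⟨d, rfl⟩
  · exact .inl (smul_le d (tv_mem h2))
  · exact .inr (smul_le d (h.tv_mem' h2))

variable [Finite G]

theorem cls (hE : EA π.range q E) : ∃ v ≠ 0, E = PP π v ∨ E = PP σ v := by
  obtain ⟨t, t0, t1⟩ : ∃ e ∈ E, e ≠ 1 := by
    by_contra! hc
    have := hE.card
    rw [(eq_bot_iff_forall E).2 hc, card_bot] at this
    nlinarith [h.two_le]
  obtain ⟨v, f, e, rfl⟩ := h.lift (hE.le t0) (hE.sq _ t0)
  have t2 := not_or.1 (mt (h.tv_eq_one e).2 t1)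
  have k : ∀ x ∈ E, x ∈ PP π v ∨ x ∈ PP σ f := fun x hx => by
    obtain ⟨w, g, e', rfl⟩ := h.lift (hE.le hx) (hE.sq _ hx)
    exact h.dep hE e e' t0 hx t1
  by_cases c : E ≤ PP π v
  · exact ⟨v, t2.1, .inl (Pl.eq_of_le hE (h.ea t2.1) c)⟩
  obtain ⟨x, x1, x2⟩ := SetLike.not_le_iff_exists.1 c
  refine ⟨f, t2.2, .inr (Pl.eq_of_le hE (h.ea' t2.2) fun y hy => (k y hy).elim (fun y1 => ?_) id)⟩
  have x3 := (k x x1).resolve_left x2
  simpa using mul_mem ((k _ (mul_mem hy x1)).resolve_left fun d =>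
    x2 (by simpa using mul_mem (inv_mem y1) d)) (inv_mem x3)

omit [Finite G] in
theorem sim (hv : v ≠ 0) (hw : w ≠ 0) : Sim π.range (PP π v) (PP π w) := by
  obtain ⟨a, a1, rfl⟩ := exists_SL_mulVec_eq (ι := Fin 3) (by simp) hv hw
  exact ⟨π (toSL a a1), ⟨_, rfl⟩, cj_PP _⟩

omit [Finite G] h in
theorem of_sim (hv : v ≠ 0) (s : Sim π.range (PP π v) A) : ∃ w ≠ 0, A = PP π w := by
  obtain ⟨_, ⟨a, rfl⟩, rfl⟩ := s
  exact ⟨_, mulVec_ne a hv, cj_PP a⟩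

theorem of_inc (hv : v ≠ 0) (hF : EA π.range q F) (i : Inc (PP π v) F) :
    ∃ f ≠ 0, F = PP σ f ∧ f ⬝ᵥ v = 0 := by
  obtain ⟨n, t, t1, t2, t3⟩ := i
  obtain ⟨f, hf, rfl | rfl⟩ := h.cls hF
  exacts [absurd (h.PP_eq t1 t2 t3) n, ⟨f, hf, rfl, h.dot_eq t1 t2 t3⟩]

omit [Finite G] in
theorem join (hv : v ≠ 0) (n : PP π v ≠ A) (s : Sim π.range (PP π v) A) :
    ∃ F, EA π.range q F ∧ Inc (PP π v) F ∧ Inc A F := by
  obtain ⟨w, hw, rfl⟩ := of_sim hv s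
  have hu : v ⨯₃ w ≠ 0 := fun e => by
    obtain ⟨c, e1⟩ := dep_of_cross hv e
    obtain ⟨d, e2⟩ := dep_of_cross hw (w := v) (by rw [← cross_anticomm, e, neg_zero])
    exact n (le_antisymm (e2 ▸ smul_le d) (e1 ▸ smul_le c))
  exact ⟨_, h.ea' hu, h.inc hv hu (by rw [dotProduct_comm, dot_self_cross]),
    h.inc hw hu (by rw [dotProduct_comm, dot_cross_self])⟩

omit [Finite G] in
theorem s2 : S2 π.range q (PP π ![1, 0, 0]) (PP π ![0, 1, 0]) (PP σ ![0, 0, 1]) (π.comp up3) := by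
  have k : ∀ x : SL(2, K), cj (π (up3 x)) (PP σ ![0, 0, 1]) ≤ PP σ ![0, 0, 1] := by
    rintro x _ ⟨y, hy, rfl⟩
    change _ * y * _ ∈ _
    obtain ⟨w, hw, rfl⟩ := h.mem_dual.1 hy
    have e : ![0, 0, 1] ᵥ* ((up3 x)⁻¹).1 = ![0, 0, 1] := by
      rw [← map_inv, coe_up3]; ext i; fin_cases i <;> simp [vecMul, dotProduct, Fin.sum_univ_succ]
    have := congrArg π (conj_tvS (up3 x) hw)
    rw [map_mul, map_mul, map_inv, e] at this
    exact this.symm ▸ h.tv_mem' (by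
      simpa [coe_up3, dotProduct, mulVec, Fin.sum_univ_succ] using hw)
  refine ⟨fun x => (k x).antisymm (cj_inv_le_iff_le_cj.1 (by simpa using k x⁻¹)), fun c =>
    ⟨![0, c, 0], by simp, congrArg π (Subtype.ext ?_)⟩, fun c =>
    ⟨![c, 0, 0], by simp, congrArg π (Subtype.ext ?_)⟩, fun x hx => ?_, fun a ha => ?_⟩
  · rw [tvS_coe (by simp), coe_up3]
    ext i j; fin_cases i <;> fin_cases j <;> simp [uu, vecMulVec]
  · rw [tvS_coe (by simp), coe_up3]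
    ext i j; fin_cases i <;> fin_cases j <;> simp [ll, vecMulVec]
  · obtain ⟨w, hw, e⟩ := h.mem_dual.1 hx
    obtain ⟨r, -, e1⟩ := Matrix.SpecialLinearGroup.mem_center_iff.1 ((h.k1 (up3 x * tvS w ![0, 0, 1])).1 (by
      rw [map_mul, ← MonoidHom.comp_apply, e, ← map_mul, tvS_sq h.char hw, map_one]))
    change _ = (up3 x).1 * (tvS w ![0, 0, 1]).1 at e1
    rw [tvS_coe hw, coe_up3] at e1
    have e2 := fun i j => congrFun (congrFun e1 i) j
    have w2 : w 2 = 0 := by simpa [dotProduct, Fin.sum_univ_succ] using hw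
    have a1 := e2 2 2
    have a2 := e2 0 0
    have a3 := e2 0 1
    have a4 := e2 1 0
    have a5 := e2 1 1
    simp [Matrix.mul_apply, Fin.sum_univ_three, vecMulVec, w2] at a1 a2 a3 a4 a5
    ext i j
    fin_cases i <;> fin_cases j <;> simp [← a2, ← a3, ← a4, ← a5, a1]
  · have a3 : (a : K) * a * a = 1 := by rw [← pow_three', ← Units.val_pow_eq_pow_val, ha, Units.val_one]
    have e : π (up3 (dg a)) = π (lo3 (dg a)) := by
      rw [← mul_inv_eq_one, ← map_inv, ← map_mul, h.k1, ← map_inv, ← dg_inv]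
      refine Matrix.SpecialLinearGroup.mem_center_iff.2 ⟨a, by simpa [pow_three'] using a3, ?_⟩
      change _ = (up3 (dg a)).1 * (lo3 (dg a⁻¹)).1
      rw [coe_up3, coe_lo3]
      ext i j; fin_cases i <;> fin_cases j <;> simp [dg, Matrix.mul_apply, Fin.sum_univ_succ]
      field_simp
      linear_combination a3
    refine e ▸ SL2_ind ((LL π.range q (PP π ![1, 0, 0])).comap (π.comp lo3)) (fun c => ?_)
      (fun c => ?_) (dg a)
    · refine le_LL (h.ea' (v := ![0, 0, 1]) (by simp)) (h.inc (by simp) (by simp) (by simp))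
        (h.mem_dual.2 ⟨![0, c, 0], by simp, congrArg π (Subtype.ext ?_)⟩)
      rw [tvS_coe (by simp), coe_lo3]
      ext i j; fin_cases i <;> fin_cases j <;> simp [uu, vecMulVec]
    · refine le_LL (h.ea' (v := ![0, 1, 0]) (by simp)) (h.inc (by simp) (by simp) (by simp))
        (h.mem_dual.2 ⟨![0, 0, c], by simp, congrArg π (Subtype.ext ?_)⟩)
      rw [tvS_coe (by simp), coe_lo3]
      ext i j; fin_cases i <;> fin_cases j <;> simp [ll, vecMulVec]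

omit [Finite G] in
theorem sl (hv : v ≠ 0) : ∃ (E E' F : Subgroup G) (φ : SL(2, K) →* G), Sim π.range E (PP π v) ∧
    EA π.range q E ∧ EA π.range q E' ∧ EA π.range q F ∧ Inc E F ∧ Inc E' F ∧ E ≠ E' ∧
    S2 π.range q E E' F φ :=
  ⟨_, _, _, _, h.sim (by simp) hv, h.ea (by simp), h.ea (by simp), h.ea' (by simp),
    h.inc (by simp) (by simp) (by simp), h.inc (by simp) (by simp) (by simp), fun e => by
      have i := h.inc (v := ![1, 0, 0]) (f := ![0, 1, 0]) (by simp) (by simp) (by simp)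
      obtain ⟨-, t, t1, t2, t3⟩ := e ▸ i
      simpa using h.dot_eq t1 t2 t3, h.s2⟩

theorem pl (hs : IsSimpleGroup π.range) : Pl π.range q K := by
  have h' := h.symm
  have r := h.rg
  refine ⟨h.fin, h.card, h.char, hs, ⟨_, h.ea (v := ![1, 0, 0]) (by simp)⟩, fun hE hF hA i => ?_,
    fun hE hF i s => ?_, fun t ht t2 t1 => ?_, fun hE n s => ?_, fun hE hF i => ?_, fun hA => ?_⟩
  · obtain ⟨w, hw, rfl | rfl⟩ := h.cls hA <;> obtain ⟨v, hv, rfl | rfl⟩ := h.cls hE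
    · exact .inl (h.sim hv hw)
    · obtain ⟨f, hf, rfl, -⟩ := h'.of_inc hv (r ▸ hF) i
      exact .inr (h.sim hf hw)
    · obtain ⟨f, hf, rfl, -⟩ := h.of_inc hv hF i
      exact .inr (r ▸ h'.sim hf hw)
    · exact .inl (r ▸ h'.sim hv hw)
  · obtain ⟨n, t, t1, t2, t3⟩ := i
    obtain ⟨v, hv, rfl | rfl⟩ := h.cls hE
    · obtain ⟨w, -, rfl⟩ := of_sim hv s
      exact n (h.PP_eq t1 t2 t3)
    · obtain ⟨w, -, rfl⟩ := of_sim hv (r ▸ s)
      exact n (h'.PP_eq t1 t2 t3)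
  · obtain ⟨v, f, e, rfl⟩ := h.lift ht t2
    have t2 := not_or.1 (mt (h.tv_eq_one e).2 t1)
    exact ⟨_, _, h.ea t2.1, h.ea' t2.2, h.ne t2.1 t2.2, tv_mem e, h.tv_mem' e⟩
  · obtain ⟨v, hv, rfl | rfl⟩ := h.cls hE
    exacts [h.join hv n s, r ▸ h'.join hv n (r ▸ s)]
  · obtain ⟨v, hv, rfl | rfl⟩ := h.cls hE
    · obtain ⟨f, hf, rfl, e⟩ := h.of_inc hv hF i
      exact h.fl hv hf e
    · obtain ⟨f, hf, rfl, e⟩ := h'.of_inc hv (r ▸ hF) i
      exact h'.fl hv hf e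
  · obtain ⟨v, hv, rfl | rfl⟩ := h.cls hA
    exacts [h.sl hv, r ▸ h'.sl hv]

end Du

theorem pl_of_iso [Finite G] [Finite K] (h2 : (2 : K) = 0) {N : Subgroup G}
    (e : N ≃* ProjectiveSpecialLinearGroup (Fin 3) K) : Pl N (Nat.card K) K := by
  let π : SL(3, K) →* G := (N.subtype.comp e.symm.toMonoidHom).comp (QuotientGroup.mk' _)
  have k : ∀ a, π a = 1 ↔ a ∈ center SL(3, K) := fun a => by simp [π]
  have r : π.range = N := by
    refine le_antisymm (by rintro _ ⟨a, rfl⟩; exact (e.symm _).2) fun x hx => ?_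
    obtain ⟨a, ha⟩ := QuotientGroup.mk_surjective (e ⟨x, hx⟩)
    exact ⟨a, by simp [π, ha]⟩
  have := PSL_isSimpleGroup (ι := Fin 3) (F := K) (by simp)
  refine r ▸ Du.pl (σ := π.comp (Known.graphSL (Fin 3) K).toMonoidHom) ⟨‹_›, rfl, h2, k, fun a =>
    (k _).trans (MulEquivClass.apply_mem_center_iff (Known.graphSL (Fin 3) K)), ?_, fun v f e => congrArg π ?_⟩
    (r ▸ e.isSimpleGroup)
  · rw [MonoidHom.range_comp π, (MonoidHom.range_eq_top (f := (Known.graphSL (Fin 3) K).toMonoidHom)).2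
      (Known.graphSL (Fin 3) K).surjective, MonoidHom.range_eq_map]
  · change Known.graphSL _ _ _ = _
    rw [Known.graphSL_tvS e, neg_eq_iff_add_eq_zero.2 (by rw [← two_smul K, h2, zero_smul])]

end Cfsg.Lib.Hi3
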